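import Cfsg.Agent.Lib.SporJ2.Stab
import Cfsg.Agent.Lib.Unitary.Simple

/-!
`J₂` is simple.
-/

set_option autoImplicit false
set_option maxRecDepth 8000

namespace Cfsg.Agent.Lib.SporJ2

open Cfsg.Agent.Lib.Computation

theorem center_su33 : Subgroup.center U33.G = ⊥ := by
  apply Subgroup.eq_bot_of_card_eq
  rw [Unitary.card_center_SU U33.card_k9 (by norm_num)]
  norm_num

/-- `H100` as the group on the list. -/
theorem exists_equiv_PSU : Nonempty (H100 ≃* Cfsg.PSU 3 U33.K9 3) :=
  exists_equiv_H100.map fun e =>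
    e.trans ((QuotientGroup.quotientMulEquivOfEq center_su33).trans QuotientGroup.quotientBot).symm

theorem simple_H100 : IsSimpleGroup H100 := by
  obtain ⟨e⟩ := exists_equiv_PSU
  haveI := Unitary.isSimpleGroup_PSU (F := U33.K9) (q := 3) (n := 3) U33.card_k9 (by norm_num) (by norm_num)
  exact e.isSimpleGroup

theorem transitive (y : Fin 100) : ∃ g ∈ K100, g 0 = y := by
  have hc := chain_ok.1
  have hg := grp_sa
  have hl : sa_chain.head?.map (fun L => (L.base, L.orb.toList.length)) = some (0, 100) := by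
    decide +kernel
  revert hc hg hl
  generalize sa_chain = c
  intro hc hg hl
  match c, hl with
  | L :: rest, hl =>
    simp only [List.head?_cons, Option.map_some, Option.some.injEq, Prod.mk.injEq] at hl
    obtain ⟨g, hgm, he⟩ := exists_apply_base_eq hc hl.2 y
    refine ⟨g, hg ▸ hgm, ?_⟩
    rw [hl.1] at he
    exact he

/-- The point stabiliser inside `K100`. -/
noncomputable def HK : Subgroup K100 := H100.subgroupOf K100

theorem H100_le : H100 ≤ K100 := fun g hg => ((mem_H100 g).1 hg).1

theorem mem_HK {g : K100} : g ∈ HK ↔ (g : Equiv.Perm (Fin 100)) 0 = 0 := by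
  rw [HK, Subgroup.mem_subgroupOf, mem_H100]
  exact and_iff_right g.2

theorem card_HK : Nat.card HK = 6048 := by
  rw [HK, Nat.card_congr (Subgroup.subgroupOfEquivOfLe H100_le).toEquiv, card_H100]

theorem simple_HK : IsSimpleGroup HK :=
  haveI := simple_H100
  (Subgroup.subgroupOfEquivOfLe H100_le).isSimpleGroup

theorem finite_K100 : Finite K100 := Nat.finite_of_card_ne_zero (by rw [card_K100]; norm_num)

/-- The orbit of `0` under a subgroup of `K100`. -/
def orb0 (N : Subgroup K100) : Set (Fin 100) := {y | ∃ n ∈ N, (n : Equiv.Perm (Fin 100)) 0 = y}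

theorem card_eq_orb (N : Subgroup K100) :
    Nat.card N = (orb0 N).ncard * Nat.card (N ⊓ HK : Subgroup K100) := by
  have e1 : MulAction.orbit N (0 : Fin 100) = orb0 N := by
    ext y
    constructor
    · rintro ⟨n, rfl⟩; exact ⟨n.1, n.2, rfl⟩
    · rintro ⟨n, hn, rfl⟩; exact ⟨⟨n, hn⟩, rfl⟩
  have e2 : MulAction.stabilizer N (0 : Fin 100) = (N ⊓ HK).subgroupOf N := by
    ext n
    rw [MulAction.mem_stabilizer_iff, Subgroup.mem_subgroupOf, Subgroup.mem_inf, mem_HK]
    exact (and_iff_right n.2).symm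
  rw [Subgroup.card_eq_card_quotient_mul_card_subgroup (MulAction.stabilizer N (0 : Fin 100)),
    ← Nat.card_congr (MulAction.orbitEquivQuotientStabilizer N (0 : Fin 100)), e1,
    Nat.card_coe_set_eq, e2, Nat.card_congr (Subgroup.subgroupOfEquivOfLe inf_le_left).toEquiv]

theorem orb0_ncard {N : Subgroup K100} [hN : N.Normal] :
    N ≤ HK ∨ (orb0 N).ncard ∈ ([37, 64, 100] : List ℕ) := by
  have hinv : ∀ y ∈ orb0 N, ∀ h ∈ H100, h y ∈ orb0 N := by
    rintro _ ⟨n, hn, rfl⟩ h hh
    refine ⟨⟨h, H100_le hh⟩ * n * (⟨h, H100_le hh⟩)⁻¹, hN.conj_mem _ hn _, ?_⟩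
    have h0 : Equiv.symm h 0 = 0 := (Equiv.symm_apply_eq h).2 ((mem_H100 h).1 hh).2.symm
    simp [h0]
  have h0 : (0 : Fin 100) ∈ orb0 N := ⟨1, one_mem _, rfl⟩
  have subA : (∃ y ∈ orb0 N, ∃ h ∈ H100, h 5 = y) →
      ∀ y, (∃ h ∈ H100, h 5 = y) → y ∈ orb0 N := by
    rintro ⟨_, hy, h, hh, rfl⟩ _ ⟨h', hh', rfl⟩
    have := hinv _ hy _ (mul_mem hh' (inv_mem hh))
    simpa using this
  have subB : (∃ y ∈ orb0 N, ∃ h ∈ H100, h 1 = y) →
      ∀ y, (∃ h ∈ H100, h 1 = y) → y ∈ orb0 N := by
    rintro ⟨_, hy, h, hh, rfl⟩ _ ⟨h', hh', rfl⟩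
    have := hinv _ hy _ (mul_mem hh' (inv_mem hh))
    simpa using this
  set A : Set (Fin 100) := {y | ∃ g ∈ H100, g 5 = y} with hAdef
  set B : Set (Fin 100) := {y | ∃ g ∈ H100, g 1 = y} with hBdef
  have cA : A.ncard = 36 := (ncard_orbit orb_check.1 orb_lt.1 orbit_A).trans orb_check.2.2.1
  have cB : B.ncard = 63 := (ncard_orbit orb_check.2.1 orb_lt.2 orbit_B).trans orb_check.2.2.2.1
  have dis : ∀ x : Fin 100, ¬(x = 0 ∧ x ∈ A) ∧ ¬(x = 0 ∧ x ∈ B) ∧ ¬(x ∈ A ∧ x ∈ B) := by
    intro x
    have h := List.all_eq_true.1 orb_check.2.2.2.2 x (List.mem_range.2 x.2)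
    simp only [decide_eq_true_eq] at h
    obtain ⟨-, h1, h2, h3⟩ := h
    exact ⟨fun ⟨a, b⟩ => h1 ⟨congrArg Fin.val a, (orbit_A x).1 b⟩,
      fun ⟨a, b⟩ => h2 ⟨congrArg Fin.val a, (orbit_B x).1 b⟩,
      fun ⟨a, b⟩ => h3 ⟨(orbit_A x).1 a, (orbit_B x).1 b⟩⟩
  by_cases ha : ∃ y ∈ orb0 N, y ∈ A <;> by_cases hb : ∃ y ∈ orb0 N, y ∈ B
  · right
    have : orb0 N = Set.univ := Set.eq_univ_of_forall fun y => by
      rcases cover y with rfl | h | h
      exacts [h0, subA ha y h, subB hb y h]
    simp [this, Set.ncard_univ]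
  · right
    have : orb0 N = insert 0 A := by
      refine Set.Subset.antisymm (fun y hy => ?_) (Set.insert_subset h0 (subA ha))
      rcases cover y with rfl | h | h
      exacts [Set.mem_insert _ _, Set.mem_insert_of_mem _ h, absurd ⟨y, hy, h⟩ hb]
    rw [this, Set.ncard_insert_of_notMem (fun h => (dis 0).1 ⟨rfl, h⟩), cA]
    simp
  · right
    have : orb0 N = insert 0 B := by
      refine Set.Subset.antisymm (fun y hy => ?_) (Set.insert_subset h0 (subB hb))
      rcases cover y with rfl | h | h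
      exacts [Set.mem_insert _ _, absurd ⟨y, hy, h⟩ ha, Set.mem_insert_of_mem _ h]
    rw [this, Set.ncard_insert_of_notMem (fun h => (dis 0).2.1 ⟨rfl, h⟩), cB]
    simp
  · left
    intro n hn
    rw [mem_HK]
    rcases cover ((n : Equiv.Perm (Fin 100)) 0) with h | h | h
    exacts [h, absurd ⟨_, ⟨n, hn, rfl⟩, h⟩ ha, absurd ⟨_, ⟨n, hn, rfl⟩, h⟩ hb]

theorem card_of_inf_bot {N : Subgroup K100} [hN : N.Normal] (h : N ⊓ HK = ⊥) :
    Nat.card N = 1 ∨ Nat.card N = 100 := by
  haveI := finite_K100
  rcases orb0_ncard (N := N) with hle | hc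
  · left
    rw [Subgroup.card_eq_one, ← h, inf_eq_left.2 hle]
  · have hd := Subgroup.card_subgroup_dvd_card N
    rw [card_eq_orb, h, Subgroup.card_bot, mul_one, card_K100] at hd
    rw [card_eq_orb, h, Subgroup.card_bot, mul_one]
    simp only [List.mem_cons, List.not_mem_nil, or_false] at hc
    rcases hc with hc | hc | hc <;> rw [hc] at hd ⊢
    · exact absurd hd (by norm_num)
    · exfalso
      -- 64 * 6048 does not divide the order
      have hrel : N.relIndex HK = Nat.card HK := by
        rw [Subgroup.relIndex, ← Subgroup.inf_subgroupOf_right, h, Subgroup.bot_subgroupOf,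
          Subgroup.index_bot]
      have := mul_dvd_mul_left (Nat.card N)
        (hrel ▸ Subgroup.relIndex_dvd_index_of_normal N HK : Nat.card HK ∣ N.index)
      rw [Subgroup.card_mul_index, card_K100, card_HK, card_eq_orb, h, Subgroup.card_bot, mul_one, hc]
        at this
      norm_num at this
    · exact Or.inr rfl

theorem isSimple_K100 : IsSimpleGroup K100 := by
  haveI := finite_K100
  haveI := simple_HK
  haveI : Nontrivial K100 := (Finite.one_lt_card_iff_nontrivial).1 (by rw [card_K100]; norm_num)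
  refine IsSimpleGroup.mk fun N hN => ?_
  rcases simple_HK.eq_bot_or_eq_top_of_normal (N.subgroupOf HK) inferInstance with hb | ht
  · have hinf : N ⊓ HK = ⊥ := Subgroup.subgroupOf_eq_bot.1 hb |>.eq_bot
    rcases card_of_inf_bot hinf with h1 | h100
    · exact Or.inl (Subgroup.card_eq_one.1 h1)
    · exfalso
      haveI : Fact (Nat.Prime 5) := ⟨by norm_num⟩
      obtain ⟨P⟩ : Nonempty (Sylow 5 N) := inferInstance
      have hP : Nat.card P = 25 := by
        rw [P.card_eq_multiplicity, h100, show (100 : ℕ) = 5 ^ 2 * 4 by norm_num,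
          Nat.factorization_mul (by norm_num) (by norm_num), Finsupp.add_apply,
          Nat.Prime.factorization_pow (by norm_num), Nat.factorization_eq_zero_of_not_dvd (by norm_num),
          Finsupp.single_eq_same]
        norm_num
      have hone : Nat.card (Sylow 5 N) = 1 := by
        have h1 := card_sylow_modEq_one 5 N
        have h2 : Nat.card (Sylow 5 N) ∣ 4 := by
          have := P.card_dvd_index
          have hi := P.toSubgroup.card_mul_index
          rw [show Nat.card P.toSubgroup = 25 from hP, h100] at hi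
          rwa [show P.toSubgroup.index = 4 by omega] at this
        have := Nat.le_of_dvd (by norm_num) h2
        unfold Nat.ModEq at h1
        omega
      haveI : Subsingleton (Sylow 5 N) := (Nat.card_eq_one_iff_unique.1 hone).1
      haveI : P.toSubgroup.Characteristic := Sylow.characteristic_of_subsingleton P
      haveI : (P.toSubgroup.map N.subtype).Normal := ConjAct.normal_of_characteristic_of_normal
      have hM := card_of_inf_bot (N := P.toSubgroup.map N.subtype)
        (le_bot_iff.1 (hinf ▸ inf_le_inf_right _ (Subgroup.map_subtype_le _)))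
      rw [Subgroup.card_map_of_injective N.subtype_injective, show Nat.card P.toSubgroup = 25 from hP]
        at hM
      omega
  · right
    have hle : HK ≤ N := Subgroup.subgroupOf_eq_top.1 ht
    rcases orb0_ncard (N := N) with hN' | hc
    · exfalso
      have e : N = HK := le_antisymm hN' hle
      obtain ⟨g, hg, hg0⟩ := transitive 5
      have hfix : ∀ h ∈ H100, h 5 = 5 := by
        intro h hh
        have hm : (⟨h, H100_le hh⟩ : K100) ∈ N := hle (mem_HK.2 ((mem_H100 h).1 hh).2)
        have := hN.conj_mem _ hm (⟨g, hg⟩ : K100)⁻¹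
        rw [e, mem_HK] at this
        simp [hg0] at this
        rw [Equiv.symm_apply_eq, hg0] at this
        exact this
      have cA := (ncard_orbit orb_check.1 orb_lt.1 orbit_A).trans orb_check.2.2.1
      rw [show {y : Fin 100 | ∃ g ∈ H100, g 5 = y} = {5} from Set.ext fun y =>
        ⟨fun ⟨h, hh, he⟩ => he.symm.trans (hfix h hh), fun hy => ⟨1, one_mem _, hy.symm⟩⟩,
        Set.ncard_singleton] at cA
      norm_num at cA
    · apply Subgroup.eq_top_of_card_eq
      have hd := Subgroup.card_subgroup_dvd_card N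
      rw [card_eq_orb, inf_eq_right.2 hle, card_HK, card_K100] at hd
      rw [card_eq_orb, inf_eq_right.2 hle, card_HK, card_K100]
      simp only [List.mem_cons, List.not_mem_nil, or_false] at hc
      rcases hc with hc | hc | hc <;> rw [hc] at hd ⊢ <;> first | (norm_num at hd; done) | norm_num

theorem isSimple_J2 : IsSimpleGroup Cfsg.Spor.J2 := by
  obtain ⟨e⟩ := exists_equiv_J2
  haveI := isSimple_K100
  exact e.isSimpleGroup

end Cfsg.Agent.Lib.SporJ2
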