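import Cfsg.Agent.Lib.SporJ2.Action
import Cfsg.Agent.Lib.SporJ2.Chain315
import Cfsg.Agent.Lib.SporJ2.Chain100
import Cfsg.Agent.Lib.SporJ2.Chain415

/-!
`J₂` is isomorphic to an explicit group of order 604800 of permutations of 100 points.
-/

set_option autoImplicit false
set_option maxRecDepth 8000

namespace Cfsg.Agent.Lib.SporJ2

open Cfsg.Spor Cfsg.Agent.Lib.Computation

/-- The four permutations of 100 points. -/
noncomputable def perm100 (g : Fin 4) : Equiv.Perm (Fin 100) := decodeP 100 7 (gens100.getD g 0)

/-- The group on 100 points. -/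
noncomputable def K100 : Subgroup (Equiv.Perm (Fin 100)) := Subgroup.closure (Set.range perm100)

/-- The group on 315 points. -/
noncomputable def K315 : Subgroup (Equiv.Perm (Fin 315)) := Subgroup.closure (Set.range perm315)

theorem range_decode {n w : ℕ} (L : List ℕ) (h4 : L.length = 4) :
    Set.range (fun g : Fin 4 => decodeP n w (L.getD g 0)) = decodeP n w '' {s | s ∈ L} := by
  ext σ
  simp only [Set.mem_range, Set.mem_image, Set.mem_setOf_eq]
  constructor
  · rintro ⟨g, rfl⟩
    refine ⟨_, ?_, rfl⟩
    rw [List.getD_eq_getElem _ _ (h4.symm ▸ g.2)]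
    exact List.getElem_mem _
  · rintro ⟨s, hs, rfl⟩
    obtain ⟨i, hi, rfl⟩ := List.getElem_of_mem hs
    exact ⟨⟨i, h4 ▸ hi⟩, by rw [List.getD_eq_getElem _ _ hi]⟩

theorem gens_eq : p315_gens = gens315 ∧ p100_gens = gens100 ∧ gens100.length = 4 ∧
    p415_gens.length = 4 := by decide +kernel

theorem order315 : (permRep 315 9 (by decide)).order p315_chain = 604800 := by decide +kernel
theorem order100 : (permRep 100 7 (by decide)).order p100_chain = 604800 := by decide +kernel
theorem order415 : (permRep 415 9 (by decide)).order p415_chain = 604800 := by decide +kernel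

theorem card_K315 : Nat.card K315 = 604800 := by
  have h := (permRep 315 9 (by decide)).card_closure p315_check
  rw [gens_eq.1] at h
  unfold K315
  rw [show Set.range perm315 = decodeP 315 9 '' {s | s ∈ gens315} from range_decode _ gens315_ok.2]
  exact h.trans order315

theorem card_K100 : Nat.card K100 = 604800 := by
  have h := (permRep 100 7 (by decide)).card_closure p100_check
  rw [gens_eq.2.1] at h
  unfold K100
  rw [show Set.range perm100 = decodeP 100 7 '' {s | s ∈ gens100} from range_decode _ gens_eq.2.2.1]
  exact h.trans order100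

/-- Pairs of permutations as permutations of 415 points. -/
def pairHom : Equiv.Perm (Fin 315) × Equiv.Perm (Fin 100) →* Equiv.Perm (Fin 415) :=
  (finSumFinEquiv (m := 315) (n := 100)).permCongrHom.toMonoidHom.comp
    (Equiv.Perm.sumCongrHom (Fin 315) (Fin 100))

theorem pairHom_injective : Function.Injective pairHom :=
  ((finSumFinEquiv (m := 315) (n := 100)).permCongrHom.injective).comp Equiv.Perm.sumCongrHom_injective

theorem joint_check : ((List.range 4).all fun g =>
    okPerm 415 9 (p415_gens.getD g 0) && okPerm 315 9 (gens315.getD g 0) &&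
      okPerm 100 7 (gens100.getD g 0) &&
      ((List.range 315).all fun x =>
        Nat.beq (getW 9 (p415_gens.getD g 0) x) (getW 9 (gens315.getD g 0) x)) &&
      ((List.range 100).all fun x =>
        Nat.beq (getW 9 (p415_gens.getD g 0) (315 + x)) (315 + getW 7 (gens100.getD g 0) x))) = true := by
  decide +kernel

theorem pairHom_gen (g : Fin 4) :
    pairHom (perm315 g, perm100 g) = decodeP 415 9 (p415_gens.getD g 0) := by
  have h := List.all_eq_true.1 joint_check g (List.mem_range.2 g.2)
  simp only [Bool.and_eq_true, List.all_eq_true, List.mem_range] at h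
  obtain ⟨⟨⟨⟨ok, ok1⟩, ok2⟩, h1⟩, h2⟩ := h
  refine Equiv.ext fun i => ?_
  obtain ⟨s, rfl⟩ := (finSumFinEquiv (m := 315) (n := 100)).surjective i
  refine Fin.ext ?_
  rw [decodeP_apply ok]
  rcases s with x | x
  · simp [-List.getD_eq_getElem?_getD, pairHom, perm315]
    show ((decodeP 315 9 (gens315.getD g 0) x : Fin 315) : ℕ) = getW 9 (p415_gens.getD g 0) x
    rw [decodeP_apply ok1, Nat.eq_of_beq_eq_true (h1 x x.2)]
  · simp [-List.getD_eq_getElem?_getD, pairHom, perm100]
    show 315 + ((decodeP 100 7 (gens100.getD g 0) x : Fin 100) : ℕ) =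
      getW 9 (p415_gens.getD g 0) (315 + x)
    rw [decodeP_apply ok2, Nat.eq_of_beq_eq_true (h2 x x.2)]

/-- The joint group. -/
noncomputable def Kpair : Subgroup (Equiv.Perm (Fin 315) × Equiv.Perm (Fin 100)) :=
  Subgroup.closure (Set.range fun g => (perm315 g, perm100 g))

theorem card_Kpair : Nat.card Kpair = 604800 := by
  rw [Nat.card_congr (Kpair.equivMapOfInjective pairHom pairHom_injective).toEquiv, Kpair,
    MonoidHom.map_closure, ← Set.range_comp,
    show (pairHom ∘ fun g => (perm315 g, perm100 g)) = fun g : Fin 4 => decodeP 415 9 (p415_gens.getD g 0)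
      from funext pairHom_gen, range_decode _ gens_eq.2.2.2]
  exact ((permRep 415 9 (by decide)).card_closure p415_check).trans order415

theorem map_fst : Kpair.map (MonoidHom.fst _ _) = K315 := by
  rw [Kpair, MonoidHom.map_closure, ← Set.range_comp]; rfl

theorem map_snd : Kpair.map (MonoidHom.snd _ _) = K100 := by
  rw [Kpair, MonoidHom.map_closure, ← Set.range_comp]; rfl

theorem nonempty_equiv_map {G H : Type*} [Group G] [Group H] (f : G →* H) (S : Subgroup G)
    [Finite S] (hc : Nat.card S = Nat.card (S.map f)) : Nonempty (S ≃* S.map f) :=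
  ⟨MulEquiv.ofBijective (f.subgroupMap S)
    ((Nat.bijective_iff_surjective_and_card _).2 ⟨f.subgroupMap_surjective S, hc⟩)⟩

theorem exists_equiv_315_100 : Nonempty (K315 ≃* K100) := by
  obtain ⟨e1⟩ := nonempty_equiv_map (MonoidHom.fst _ _) Kpair (by rw [map_fst, card_Kpair, card_K315])
  obtain ⟨e2⟩ := nonempty_equiv_map (MonoidHom.snd _ _) Kpair (by rw [map_snd, card_Kpair, card_K100])
  exact ⟨((MulEquiv.subgroupCongr map_fst).symm.trans e1.symm).trans
    (e2.trans (MulEquiv.subgroupCongr map_snd))⟩

/-- `J₂` as a group on 315 points. -/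
noncomputable def equiv315 : J2 ≃* K315 :=
  ((QuotientGroup.quotientMulEquivOfEq ker_act.symm).trans
    (QuotientGroup.quotientKerEquivRange act)).trans (MulEquiv.subgroupCongr range_act)

theorem exists_equiv_J2 : Nonempty (J2 ≃* K100) :=
  exists_equiv_315_100.map fun e => equiv315.trans e

theorem card_J2 : Nat.card J2 = 604800 := by
  rw [Nat.card_congr equiv315.toEquiv, card_K315]

theorem card_twoJ2 : Nat.card twoJ2 = 1209600 := by
  rw [Subgroup.card_eq_card_quotient_mul_card_subgroup (Subgroup.center twoJ2), card_center]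
  exact (congrArg (· * 2) card_J2).trans (by norm_num)

end Cfsg.Agent.Lib.SporJ2
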