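import Cfsg.Agent.Lib.SporJ2.Minimal
import Cfsg.Agent.Lib.SporJ2.ActData
import Cfsg.Agent.Lib.Computation.PermCode

/-!
`2·J₂` acts on its 315 reflections; the kernel is the centre `{±1}`.
-/

set_option autoImplicit false
set_option maxRecDepth 8000

namespace Cfsg.Agent.Lib.SporJ2

open Quaternion Cfsg.Spor Cfsg.Agent.Lib.Computation

/-- The image of the reflection `k` under conjugation by the generator `g`. -/
def sig (g k : ℕ) : ℕ := getW 9 (gens315.getD g 0) k
/-- The vector index of the generator `g`. -/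
def gk (g : ℕ) : ℕ := genVecs.getD g 0
/-- The connecting unit. -/
def stepU (g k : ℕ) : Qc := units.getD (getW 7 (stepUnits.getD g 0) k) qone
/-- The rank in the tree. -/
def tRank (k : ℕ) : ℕ := getW 20 reflTree k / 2048
/-- The generator leading to `k`. -/
def tGen (k : ℕ) : ℕ := getW 20 reflTree k / 512 % 4
/-- The parent of `k`. -/
def tPar (k : ℕ) : ℕ := getW 20 reflTree k % 512

/-- All bundled checks on a single vector. -/
def vecOK (k : ℕ) : Bool :=
  okT (vec k) && decide (za (za (nsum (vec k).1) (nsum (vec k).2.1)) (nsum (vec k).2.2) = (16, 0))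

/-- The step check. -/
def stepOK (g k : ℕ) : Bool :=
  decide (sig g k < 315 ∧ sig g (sig g k) = k) && okRef (vec (gk g)) (vec k) &&
    decide (scT (stepU g k) (refT (vec (gk g)) (vec k)) = vec (sig g k))

theorem vec_check : (List.range 315).all vecOK = true := by decide +kernel

theorem gen_check : ((List.range 4).all fun g => decide (gk g < 315) &&
    latBasis.all fun x => okRef (vec (gk g)) x && okT (refT (vec (gk g)) x)) = true := by
  decide +kernel

theorem step_check : ((List.range 4).all fun g => (List.range 315).all fun k => stepOK g k) = true := by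
  decide +kernel

theorem tree_check : ((List.range 315).all fun k =>
    Nat.beq k 0 || decide (tPar k < 315 ∧ tRank (tPar k) < tRank k ∧ sig (tGen k) (tPar k) = k)) =
    true := by decide +kernel

theorem distinct_check : ((List.range 315).all fun k =>
    Nat.beq k 0 || !decide (scT (ipT (vec 0) (vec k)) (vec k) = scT (qadd (qadd qone qone) (qadd qone qone)) (vec 0))) =
    true := by decide +kernel

theorem stepU_mem_units : ((List.range 4).all fun g => (List.range 315).all fun k =>
    Nat.blt (getW 7 (stepUnits.getD g 0) k) 120) = true := by decide +kernel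

theorem units_length : units.length = 120 := by decide +kernel

theorem vec_spec {k : ℕ} (hk : k < 315) :
    okT (vec k) = true ∧ memT (vec k) = true ∧ valT (vec k) ∈ icoLeech ∧
      qip (valT (vec k)) (valT (vec k)) = 4 := by
  have h := List.all_eq_true.1 vec_check k (List.mem_range.2 hk)
  simp only [vecOK, Bool.and_eq_true, decide_eq_true_eq] at h
  refine ⟨h.1, ?_, mem_icoLeech_iff.2 ⟨_, h.1, rfl⟩, qip_self_four.2 h.2⟩
  have := h.1
  simp only [okT, Bool.and_eq_true] at this
  exact this.1.1.1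

theorem sig_spec {g k : ℕ} (hg : g < 4) (hk : k < 315) :
    sig g k < 315 ∧ sig g (sig g k) = k ∧ stepU g k ∈ units ∧
      valT (vec (sig g k)) = lmul (val (stepU g k)) (qrefl (valT (vec (gk g))) (valT (vec k))) := by
  have h := List.all_eq_true.1 (List.all_eq_true.1 step_check g (List.mem_range.2 hg)) k
    (List.mem_range.2 hk)
  simp only [stepOK, Bool.and_eq_true, decide_eq_true_eq] at h
  obtain ⟨⟨⟨h1, h2⟩, h3⟩, h4⟩ := h
  have hu : stepU g k ∈ units := by
    have hlt := List.all_eq_true.1 (List.all_eq_true.1 stepU_mem_units g (List.mem_range.2 hg)) k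
      (List.mem_range.2 hk)
    rw [Nat.blt_eq] at hlt
    unfold stepU
    rw [List.getD_eq_getElem _ _ (by rw [units_length]; exact hlt)]
    exact List.getElem_mem _
  have hgk : gk g < 315 := by
    have := List.all_eq_true.1 gen_check g (List.mem_range.2 hg)
    simp only [Bool.and_eq_true, decide_eq_true_eq] at this
    exact this.1
  have hm : memT (refT (vec (gk g)) (vec k)) = true := by
    simp only [okRef, Bool.and_eq_true] at h3
    obtain ⟨r1, r2, r3⟩ := memT_iff.1 (vec_spec hgk).2.1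
    obtain ⟨x1, x2, x3⟩ := memT_iff.1 (vec_spec hk).2.1
    exact memT_iff.2 ⟨mem_qsub x1 (mem_qm h3.2 r1), mem_qsub x2 (mem_qm h3.2 r2),
      mem_qsub x3 (mem_qm h3.2 r3)⟩
  refine ⟨h1, h2, hu, ?_⟩
  rw [← h4, valT_scT (unit_spec hu).1 hm,
    valT_refT (vec_spec hk).2.1 (vec_spec hgk).2.1 h3]

theorem gk_lt {g : ℕ} (hg : g < 4) : gk g < 315 := by
  have := List.all_eq_true.1 gen_check g (List.mem_range.2 hg)
  simp only [Bool.and_eq_true, decide_eq_true_eq] at this
  exact this.1

theorem gen_mapsTo {g : ℕ} (hg : g < 4) :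
    ∀ x ∈ icoLeech, qrefl (valT (vec (gk g))) x ∈ icoLeech := by
  have := List.all_eq_true.1 gen_check g (List.mem_range.2 hg)
  simp only [Bool.and_eq_true] at this
  exact fun x hx => qrefl_mapsTo (vec_spec (gk_lt hg)).1 this.2 hx

theorem step_qrefl {g k : ℕ} (hg : g < 4) (hk : k < 315) (x : H3) :
    qrefl (valT (vec (sig g k))) x =
      qrefl (valT (vec (gk g))) (qrefl (valT (vec k)) (qrefl (valT (vec (gk g))) x)) := by
  obtain ⟨-, -, hu, he⟩ := sig_spec hg hk
  rw [he, qrefl_lmul_unit (unit_spec hu).2.1, qrefl_conj (vec_spec (gk_lt hg)).2.2.2]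

theorem tree_spec {k : ℕ} (hk : k < 315) (h0 : k ≠ 0) :
    tPar k < 315 ∧ tRank (tPar k) < tRank k ∧ tGen k < 4 ∧ sig (tGen k) (tPar k) = k := by
  have h := List.all_eq_true.1 tree_check k (List.mem_range.2 hk)
  simp only [Bool.or_eq_true, decide_eq_true_eq] at h
  obtain ⟨a, b, c⟩ := h.resolve_left (fun e => h0 (Nat.eq_of_beq_eq_true e))
  exact ⟨a, b, Nat.mod_lt _ (by norm_num), c⟩

/-- Induction along the tree. -/
theorem tree_induction {P : ℕ → Prop} (h0 : P 0)
    (hs : ∀ g < 4, ∀ p < 315, P p → P (sig g p)) : ∀ k < 315, P k := by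
  have main : ∀ r k, k < 315 → tRank k = r → P k := by
    intro r
    induction r using Nat.strong_induction_on with
    | _ r ih =>
      intro k hk hr
      by_cases h : k = 0
      · exact h ▸ h0
      obtain ⟨a, b, c, d⟩ := tree_spec hk h
      exact d ▸ hs _ c _ a (ih _ (hr ▸ b) _ a rfl)
  exact fun k hk => main _ k hk rfl

theorem vec_zero_mapsTo : ∀ x ∈ icoLeech, qrefl (valT (vec 0)) x ∈ icoLeech :=
  fun x hx => qrefl_mapsTo (vec_spec (by norm_num)).1
    (by decide +kernel : (latBasis.all fun x => okRef (vec 0) x && okT (refT (vec 0) x)) = true) hx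

theorem all_mapsTo : ∀ k < 315, ∀ x ∈ icoLeech, qrefl (valT (vec k)) x ∈ icoLeech :=
  tree_induction vec_zero_mapsTo fun g hg p hp ih x hx => by
    rw [step_qrefl hg hp]
    exact gen_mapsTo hg _ (ih _ (gen_mapsTo hg _ hx))

/-- The 315 reflections. -/
noncomputable def R (k : Fin 315) : Equiv.Perm icoLeech :=
  reflPerm (valT (vec k)) (vec_spec k.2).2.2.2 (all_mapsTo k k.2)

theorem R_apply (k : Fin 315) (x : icoLeech) :
    ((R k x : icoLeech) : H3) = qrefl (valT (vec k)) x := rfl

theorem R_mul_self (k : Fin 315) : R k * R k = 1 :=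
  Equiv.ext fun x => Subtype.ext (qrefl_qrefl (vec_spec k.2).2.2.2 x.1)

theorem R_inv (k : Fin 315) : (R k)⁻¹ = R k := inv_eq_of_mul_eq_one_right (R_mul_self k)

/-- The image of a reflection under a generator. -/
def sigF (g : Fin 4) (k : Fin 315) : Fin 315 := ⟨sig g k, (sig_spec g.2 k.2).1⟩

/-- The generating reflections. -/
def gF (g : Fin 4) : Fin 315 := ⟨gk g, gk_lt g.2⟩

theorem R_step (g : Fin 4) (k : Fin 315) : R (sigF g k) = R (gF g) * R k * R (gF g) :=
  Equiv.ext fun x => Subtype.ext (step_qrefl g.2 k.2 x.1)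

theorem sigF_sigF (g : Fin 4) (k : Fin 315) : sigF g (sigF g k) = k :=
  Fin.ext (sig_spec g.2 k.2).2.1

theorem tree_inductionF {P : Fin 315 → Prop} (h0 : P 0)
    (hs : ∀ g p, P p → P (sigF g p)) : ∀ k, P k := by
  have := tree_induction (P := fun k => ∀ h : k < 315, P ⟨k, h⟩) (fun _ => h0)
    (fun g hg p hp ih _ => hs ⟨g, hg⟩ ⟨p, hp⟩ (ih hp))
  exact fun k => this k k.2 k.2

theorem eq_zero_of_R_eq {k : Fin 315} (h : R k = R 0) : k = 0 := by
  by_contra hne
  have hk : (k : ℕ) ≠ 0 := fun e => hne (Fin.ext e)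
  have hc := List.all_eq_true.1 distinct_check k (List.mem_range.2 k.2)
  simp only [Bool.or_eq_true, Bool.not_eq_true', decide_eq_false_iff_not] at hc
  refine hc.resolve_left (fun e => hk (Nat.eq_of_beq_eq_true e)) (valT_injective ?_)
  obtain ⟨-, m0, hL, q0⟩ := vec_spec (k := 0) (by norm_num)
  obtain ⟨-, mk, -, -⟩ := vec_spec k.2
  have e := congrArg (fun f : Equiv.Perm icoLeech => ((f ⟨_, hL⟩ : icoLeech) : H3)) h
  simp only [R_apply] at e
  rw [show qrefl (valT (vec ((0 : Fin 315) : ℕ))) (valT (vec 0)) = -valT (vec 0) from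
    qrefl_self q0] at e
  rw [valT_scT (mem_ipT m0 mk) mk, valT_scT (by decide) m0, val_ipT m0 mk]
  funext t
  have et : valT (vec 0) t - ((1 / 2 : ℝ) • qip (valT (vec 0)) (valT (vec k))) * valT (vec k) t =
    -valT (vec 0) t := congrFun e t
  show qip _ _ * _ = _ * _
  rw [val_qadd, val_qadd, val_qone]
  generalize qip (valT (vec 0)) (valT (vec (k : ℕ))) = c at et
  generalize valT (vec 0) t = a at et
  generalize valT (vec (k : ℕ)) t = b at et
  have e2 : ((1 / 2 : ℝ) • c) * b = a + a := by rw [← sub_eq_zero] at et ⊢; rw [← neg_eq_zero, ← et]; abel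
  rw [smul_mul_assoc] at e2
  have e3 := congrArg (fun q : ℍ[ℝ] => (2 : ℝ) • q) e2
  simp only [smul_smul] at e3
  norm_num at e3
  rw [e3, two_smul]
  noncomm_ring

theorem R_injective : Function.Injective R := by
  refine fun j k h => tree_inductionF (P := fun j => ∀ k, R j = R k → j = k)
    (fun k h => (eq_zero_of_R_eq h.symm).symm) (fun g p ih k h => ?_) j k h
  rw [ih (sigF g k) (by rw [R_step, ← h, ← R_step, sigF_sigF]), sigF_sigF]

theorem R_mem (k : Fin 315) : R k ∈ twoJ2 := by
  refine Subgroup.subset_closure ⟨⟨_, (vec_spec k.2).2.2.1⟩, (vec_spec k.2).2.2.2, fun x => rfl⟩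

theorem exists_R {f : Equiv.Perm icoLeech} (hf : IsIcoReflection f) : ∃ k, f = R k := by
  obtain ⟨⟨r, hr⟩, hq, hf⟩ := hf
  obtain ⟨u, hu, k, hk, he⟩ := minimal_complete hr hq
  refine ⟨⟨k, hk⟩, Equiv.ext fun x => Subtype.ext ?_⟩
  rw [hf x, R_apply, show ((⟨r, hr⟩ : icoLeech) : H3) = r from rfl, he,
    qrefl_lmul_unit (unit_spec hu).2.1]

/-- The root reflection is a word in the generators. -/
theorem R_mem_gens (h0 : R 0 ∈ Subgroup.closure (Set.range fun g => R (gF g))) (k : Fin 315) :
    R k ∈ Subgroup.closure (Set.range fun g => R (gF g)) :=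
  tree_inductionF (P := fun k => R k ∈ Subgroup.closure (Set.range fun g => R (gF g))) h0
    (fun g p ih => by
      rw [R_step]
      exact mul_mem (mul_mem (Subgroup.subset_closure ⟨g, rfl⟩) ih) (Subgroup.subset_closure ⟨g, rfl⟩)) k

theorem twoJ2_eq : twoJ2 = Subgroup.closure (Set.range fun g => R (gF g)) := by
  refine le_antisymm (Subgroup.closure_le _ |>.2 fun f hf => ?_) (Subgroup.closure_le _ |>.2 ?_)
  · obtain ⟨k, rfl⟩ := exists_R hf
    refine R_mem_gens ?_ k
    have back : ∀ j, R j ∈ Subgroup.closure (Set.range fun g => R (gF g)) →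
        R 0 ∈ Subgroup.closure (Set.range fun g => R (gF g)) :=
      tree_inductionF (P := fun j => R j ∈ Subgroup.closure (Set.range fun g => R (gF g)) →
        R 0 ∈ Subgroup.closure (Set.range fun g => R (gF g))) id (fun g p ih h => ih (by
          have e := R_step g (sigF g p)
          rw [sigF_sigF] at e
          rw [e]
          exact mul_mem (mul_mem (Subgroup.subset_closure ⟨g, rfl⟩) h)
            (Subgroup.subset_closure ⟨g, rfl⟩)))
    exact back (gF 0) (Subgroup.subset_closure ⟨0, rfl⟩)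
  · rintro _ ⟨g, rfl⟩
    exact R_mem _

theorem conj_exists {g : Equiv.Perm icoLeech} (hg : g ∈ twoJ2) :
    ∀ k, ∃ j, g * R k * g⁻¹ = R j := by
  rw [twoJ2_eq] at hg
  induction hg using Subgroup.closure_induction with
  | mem x hx =>
    obtain ⟨g, rfl⟩ := hx
    exact fun k => ⟨sigF g k, by rw [R_inv, R_step]⟩
  | one => exact fun k => ⟨k, by simp⟩
  | mul x y _ _ hx hy =>
    intro k
    obtain ⟨j, hj⟩ := hy k
    obtain ⟨i, hi⟩ := hx j
    exact ⟨i, by rw [← hi, ← hj]; group⟩
  | inv x _ hx =>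
    choose f hf using hx
    have hinj : Function.Injective f := fun a b e => R_injective (by
      have h := (hf a).trans ((congrArg R e).trans (hf b).symm)
      exact mul_left_cancel (mul_right_cancel h))
    intro k
    obtain ⟨j, rfl⟩ := Finite.injective_iff_surjective.1 hinj k
    exact ⟨j, by rw [← hf j]; group⟩

/-- The image of a reflection under conjugation. -/
noncomputable def actFun (g : twoJ2) (k : Fin 315) : Fin 315 := (conj_exists g.2 k).choose

theorem R_actFun (g : twoJ2) (k : Fin 315) :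
    (g : Equiv.Perm icoLeech) * R k * (g : Equiv.Perm icoLeech)⁻¹ = R (actFun g k) :=
  (conj_exists g.2 k).choose_spec

theorem actFun_mul (a b : twoJ2) (k : Fin 315) : actFun (a * b) k = actFun a (actFun b k) :=
  R_injective (by rw [← R_actFun, ← R_actFun, ← R_actFun, Subgroup.coe_mul]; group)

theorem actFun_one (k : Fin 315) : actFun 1 k = k :=
  R_injective (by rw [← R_actFun]; simp)

/-- The action of `2·J₂` on the reflections. -/
noncomputable def act : twoJ2 →* Equiv.Perm (Fin 315) where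
  toFun g :=
    { toFun := actFun g
      invFun := actFun g⁻¹
      left_inv := fun k => by rw [← actFun_mul, inv_mul_cancel, actFun_one]
      right_inv := fun k => by rw [← actFun_mul, mul_inv_cancel, actFun_one] }
  map_one' := Equiv.ext actFun_one
  map_mul' a b := Equiv.ext fun k => actFun_mul a b k

theorem R_act (g : twoJ2) (k : Fin 315) :
    (g : Equiv.Perm icoLeech) * R k * (g : Equiv.Perm icoLeech)⁻¹ = R (act g k) :=
  R_actFun g k

theorem act_gen (g : Fin 4) (k : Fin 315) : act ⟨R (gF g), R_mem _⟩ k = sigF g k :=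
  R_injective (by rw [← R_act, R_step, R_inv])

theorem gens315_ok : (gens315.all fun c => okPerm 315 9 c) = true ∧ gens315.length = 4 := by
  decide +kernel

/-- The four permutations of the reflections. -/
noncomputable def perm315 (g : Fin 4) : Equiv.Perm (Fin 315) := decodeP 315 9 (gens315.getD g 0)

theorem act_gen_eq (g : Fin 4) : act ⟨R (gF g), R_mem _⟩ = perm315 g := by
  refine Equiv.ext fun k => Fin.ext ?_
  have hok : okPerm 315 9 (gens315.getD g 0) = true := by
    rw [List.getD_eq_getElem _ _ (by rw [gens315_ok.2]; exact g.2)]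
    exact List.all_eq_true.1 gens315_ok.1 _ (List.getElem_mem _)
  rw [act_gen, perm315, decodeP_apply hok]
  rfl

theorem gens_top : Subgroup.closure (Set.range fun g => (⟨R (gF g), R_mem _⟩ : twoJ2)) = ⊤ := by
  rw [eq_top_iff]
  rintro ⟨x, hx⟩ -
  have hx' : x ∈ Subgroup.closure (Set.range fun g => R (gF g)) := twoJ2_eq ▸ hx
  rw [show (Set.range fun g => R (gF g)) =
    twoJ2.subtype '' Set.range (fun g => (⟨R (gF g), R_mem _⟩ : twoJ2)) by rw [← Set.range_comp]; rfl,
    ← MonoidHom.map_closure] at hx'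
  obtain ⟨y, hy, he⟩ := hx'
  rwa [show (⟨x, hx⟩ : twoJ2) = y from Subtype.ext he.symm]

theorem range_act : act.range = Subgroup.closure (Set.range perm315) := by
  rw [MonoidHom.range_eq_map, ← gens_top, MonoidHom.map_closure, ← Set.range_comp]
  exact congrArg (fun f => Subgroup.closure (Set.range f)) (funext act_gen_eq)

theorem ker_act : act.ker = Subgroup.center twoJ2 := by
  ext z
  rw [MonoidHom.mem_ker, Subgroup.mem_center_iff]
  constructor
  · intro hz g
    have hg : g ∈ Subgroup.closure (Set.range fun g => (⟨R (gF g), R_mem _⟩ : twoJ2)) :=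
      gens_top ▸ Subgroup.mem_top g
    induction hg using Subgroup.closure_induction with
    | mem x hx =>
      obtain ⟨g, rfl⟩ := hx
      have h := R_act z (gF g)
      rw [hz, Equiv.Perm.one_apply] at h
      exact Subtype.ext (mul_inv_eq_iff_eq_mul.1 h).symm
    | one => simp
    | mul x y _ _ hx hy => rw [mul_assoc, hy, ← mul_assoc, hx, mul_assoc]
    | inv x _ hx => exact (Commute.inv_left (hx : Commute x z)).eq
  · intro hz
    refine Equiv.ext fun k => R_injective ?_
    rw [← R_act, Equiv.Perm.one_apply, mul_inv_eq_iff_eq_mul]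
    exact (congrArg Subtype.val (hz ⟨R k, R_mem k⟩)).symm

/-! ### The centre -/

/-- `F` extends `g` to a semilinear isometry of `ℍ³`. -/
structure IsLin (g : Equiv.Perm icoLeech) (F : H3 → H3) : Prop where
  ext : ∀ x : icoLeech, ((g x : icoLeech) : H3) = F x
  add : ∀ x y, F (x + y) = F x + F y
  smul : ∀ q x, F (lmul q x) = lmul q (F x)
  isom : ∀ x y, qip (F x) (F y) = qip x y

theorem IsLin.one : IsLin 1 id :=
  ⟨fun _ => rfl, fun _ _ => rfl, fun _ _ => rfl, fun _ _ => rfl⟩

theorem IsLin.R_mul {g : Equiv.Perm icoLeech} {F : H3 → H3} (h : IsLin g F) (k : Fin 315) :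
    IsLin (R k * g) (qrefl (valT (vec k)) ∘ F) :=
  ⟨fun x => by rw [Equiv.Perm.mul_apply, R_apply, h.ext]; rfl,
   fun x y => by simp [h.add, qrefl_add],
   fun q x => by simp [h.smul, qrefl_lmul],
   fun x y => by simp [qip_qrefl (vec_spec k.2).2.2.2, h.isom]⟩

theorem exists_isLin {g : Equiv.Perm icoLeech} (hg : g ∈ twoJ2) : ∃ F, IsLin g F := by
  rw [twoJ2_eq] at hg
  induction hg using Subgroup.closure_induction_left with
  | one => exact ⟨id, IsLin.one⟩
  | mul_left x hx y _ ih =>
    obtain ⟨g, rfl⟩ := hx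
    obtain ⟨F, hF⟩ := ih
    exact ⟨_, hF.R_mul _⟩
  | inv_mul_cancel x hx y _ ih =>
    obtain ⟨g, rfl⟩ := hx
    obtain ⟨F, hF⟩ := ih
    rw [R_inv]
    exact ⟨_, hF.R_mul _⟩

theorem frame_vecs :
    vec 170 = (qadd qone qone, qzero, qzero) ∧ vec 1 = (qzero, qadd qone qone, qzero) ∧
    vec 0 = (qzero, qzero, qadd qone qone) ∧ vec 2 = (qzero, qh, qh) ∧
    vec 171 = (qh, qh, qzero) ∧ vec 3 = (qzero, qh, qm qh qi) ∧
    vec 4 = (qzero, qh, qm qh ⟨(0, 0), (0, 0), (2, 0), (0, 0)⟩) := by
  decide +kernel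

/-- A lattice vector fixed up to a scalar by a commuting element. -/
theorem IsLin.eigen {g : Equiv.Perm icoLeech} {F : H3 → H3} (hF : IsLin g F) {k : Fin 315}
    (hc : g * R k = R k * g) : ∃ q, F (valT (vec k)) = lmul q (valT (vec k)) := by
  obtain ⟨-, -, hL, hq⟩ := vec_spec k.2
  have e := congrArg (fun f : Equiv.Perm icoLeech => ((f ⟨_, hL⟩ : icoLeech) : H3)) hc
  simp only [Equiv.Perm.mul_apply, R_apply, hF.ext, qrefl_self hq] at e
  have hneg : F (-valT (vec k)) = -F (valT (vec k)) := by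
    rw [show -valT (vec k) = lmul (-1) (valT (vec k)) by funext t; simp [lmul], hF.smul]
    funext t; simp [lmul]
  rw [hneg] at e
  generalize F (valT (vec k)) = y at e
  refine ⟨(1 / 4 : ℝ) • qip y (valT (vec k)), funext fun t => ?_⟩
  have et : -y t = y t - ((1 / 2 : ℝ) • qip y (valT (vec k))) * valT (vec k) t := congrFun e t
  show y t = _ * valT (vec k) t
  have e2 : ((1 / 2 : ℝ) • qip y (valT (vec k))) * valT (vec k) t = y t + y t := by
    generalize ((1 / 2 : ℝ) • qip y (valT (vec k))) * valT (vec k) t = X at et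
    calc X = -(y t - X) + y t := by abel
      _ = y t + y t := by rw [← et, neg_neg]
  rw [smul_mul_assoc] at e2 ⊢
  rw [show (1 / 4 : ℝ) = 1 / 2 * (1 / 2) by norm_num, ← smul_smul, e2, ← two_smul ℝ, smul_smul]
  norm_num

theorem eq_real_of_commute {q : ℍ[ℝ]} (hi : q * val qi = val qi * q)
    (hj : q * val ⟨(0, 0), (0, 0), (2, 0), (0, 0)⟩ = val ⟨(0, 0), (0, 0), (2, 0), (0, 0)⟩ * q) :
    q = (q.re : ℍ[ℝ]) := by
  have a1 := congrArg (fun x : ℍ[ℝ] => x.imJ) hi
  have a2 := congrArg (fun x : ℍ[ℝ] => x.imK) hi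
  have a3 := congrArg (fun x : ℍ[ℝ] => x.imK) hj
  simp [qi, rt] at a1 a2 a3
  ext <;> simp <;> linarith

theorem isLin_center {g : Equiv.Perm icoLeech} {F : H3 → H3} (hF : IsLin g F)
    (hc : ∀ k, g * R k = R k * g) :
    ∃ r : ℝ, (r = 1 ∨ r = -1) ∧ ∀ x, F x = lmul (r : ℍ[ℝ]) x := by
  obtain ⟨f0, f1, f2, e12, e01, ei, ej⟩ := frame_vecs
  have eig := fun k (hk : k < 315) => hF.eigen (k := ⟨k, hk⟩) (hc _)
  obtain ⟨q0, h0⟩ := eig 170 (by norm_num)
  obtain ⟨q1, h1⟩ := eig 1 (by norm_num)
  obtain ⟨q2, h2⟩ := eig 0 (by norm_num)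
  simp only [f0, f1, f2] at h0 h1 h2
  have two : val (qadd qone qone) = 2 := by rw [val_qadd, val_qone, one_add_one_eq_two]
  have two0 : (2 : ℍ[ℝ]) ≠ 0 := fun h => by
    have := congrArg (fun x : ℍ[ℝ] => x.re) h
    rw [show (2 : ℍ[ℝ]) = ((2 : ℝ) : ℍ[ℝ]) from rfl] at this
    simp at this
  have k2 : ∀ a q : ℍ[ℝ], a * 2⁻¹ * (q * 2) = a * q := fun a q => by
    rw [(Commute.ofNat_right q 2).eq, ← mul_assoc, mul_assoc a, inv_mul_cancel₀ two0, mul_one]
  -- `F` is diagonal
  have diag : ∀ x : H3, F x = ![x 0 * q0, x 1 * q1, x 2 * q2] := by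
    intro x
    have ex : x = lmul (x 0 * 2⁻¹) (valT (qadd qone qone, qzero, qzero)) +
        lmul (x 1 * 2⁻¹) (valT (qzero, qadd qone qone, qzero)) +
        lmul (x 2 * 2⁻¹) (valT (qzero, qzero, qadd qone qone)) := by
      funext t
      fin_cases t <;> simp [lmul, valT, val_qzero, two, inv_mul_cancel₀ two0, mul_assoc]
    conv_lhs => rw [ex, hF.add, hF.add, hF.smul, hF.smul, hF.smul, h0, h1, h2]
    funext t
    fin_cases t <;> simp [lmul, valT, val_qzero, two, k2]
  have hh : val qh ≠ 0 := fun h => two0 (by rw [← qh_qhb.1, h, zero_mul])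
  -- pairs of equal coordinates
  obtain ⟨u, hu⟩ := eig 2 (by norm_num)
  simp only [e12, diag] at hu
  have u1 : val qh * q1 = u * val qh := by simpa [lmul, valT] using congrFun hu 1
  have u2 : val qh * q2 = u * val qh := by simpa [lmul, valT] using congrFun hu 2
  have h12 : q1 = q2 := mul_left_cancel₀ hh (u1.trans u2.symm)
  obtain ⟨v, hv⟩ := eig 171 (by norm_num)
  simp only [e01, diag] at hv
  have v0 : val qh * q0 = v * val qh := by simpa [lmul, valT] using congrFun hv 0
  have v1 : val qh * q1 = v * val qh := by simpa [lmul, valT] using congrFun hv 1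
  have h01 : q0 = q1 := mul_left_cancel₀ hh (v0.trans v1.symm)
  have comm : ∀ c : Qc, mem c = true → (∃ k < 315, vec k = (qzero, qh, qm qh c)) →
      q1 * val c = val c * q1 := by
    rintro c hc' ⟨k, hk, hkv⟩
    obtain ⟨w, hw⟩ := eig k hk
    simp only [hkv, diag] at hw
    have w1 : val qh * q1 = w * val qh := by simpa [lmul, valT] using congrFun hw 1
    have w2 : val qh * val c * q2 = w * (val qh * val c) := by
      simpa [lmul, valT, val_qm' (x := qh) rfl hc'] using congrFun hw 2
    refine mul_left_cancel₀ hh ?_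
    rw [← mul_assoc, w1, mul_assoc, ← w2, h12, mul_assoc]
  have hreal := eq_real_of_commute (comm qi rfl ⟨3, by norm_num, ei⟩)
    (comm _ rfl ⟨4, by norm_num, ej⟩)
  refine ⟨q1.re, ?_, fun x => ?_⟩
  · obtain ⟨-, -, -, hq⟩ := vec_spec (k := 1) (by norm_num)
    have := hF.isom (valT (vec 1)) (valT (vec 1))
    rw [f1, h1, qip_lmul_left, qip_lmul_right, ← f1, hq] at this
    have e : q1 = (q1.re : ℍ[ℝ]) := hreal
    rw [e, Quaternion.star_coe, show (4 : ℍ[ℝ]) = ((4 : ℝ) : ℍ[ℝ]) from rfl, ← Quaternion.coe_mul,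
      ← Quaternion.coe_mul, Quaternion.coe_inj] at this
    have h4 : q1.re * q1.re = 1 := by linarith
    exact mul_self_eq_one_iff.1 h4
  · rw [diag, h01, ← h12]
    generalize (q1.re : ℍ[ℝ]) = r at hreal
    subst hreal
    funext t
    have cm : ∀ a : ℍ[ℝ], a * q1 = q1 * a := fun a => by
      rw [eq_real_of_commute (comm qi rfl ⟨3, by norm_num, ei⟩) (comm _ rfl ⟨4, by norm_num, ej⟩)]
      exact (Quaternion.coe_commute _ a).eq.symm
    fin_cases t <;> simp [lmul, cm]

/-- `-1` on the lattice. -/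
noncomputable def negOne : Equiv.Perm icoLeech :=
  R ⟨170, by norm_num⟩ * R ⟨1, by norm_num⟩ * R 0

theorem negOne_apply (x : icoLeech) : ((negOne x : icoLeech) : H3) = -(x : H3) := by
  obtain ⟨f0, f1, f2, -⟩ := frame_vecs
  have two : val (qadd qone qone) = 2 := by rw [val_qadd, val_qone, one_add_one_eq_two]
  have two' : star (2 : ℍ[ℝ]) = 2 := star_ofNat 2
  have h4 : ∀ a : ℍ[ℝ], ((2⁻¹ : ℝ) • (a * 2)) * 2 = a + a := fun a => by
    rw [smul_mul_assoc, mul_two, mul_two, ← two_smul ℝ (a + a), smul_smul]; norm_num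
  simp only [negOne, Equiv.Perm.mul_apply, R_apply, f0, f1, Fin.val_zero, f2]
  funext t
  fin_cases t <;>
    simp [qrefl, qip, Fin.sum_univ_three, valT, val_qzero, two, two', h4]

theorem negOne_mem_center : (⟨negOne, mul_mem (mul_mem (R_mem _) (R_mem _)) (R_mem _)⟩ : twoJ2) ∈
    Subgroup.center twoJ2 := by
  rw [Subgroup.mem_center_iff]
  rintro ⟨g, hg⟩
  refine Subtype.ext (Equiv.ext fun x => Subtype.ext ?_)
  obtain ⟨F, hF⟩ := exists_isLin hg
  show ((g (negOne x) : icoLeech) : H3) = ((negOne (g x) : icoLeech) : H3)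
  rw [hF.ext, negOne_apply, negOne_apply, hF.ext,
    show -(x : H3) = lmul (-1) (x : H3) by funext t; simp [lmul], hF.smul]
  funext t; simp [lmul]

theorem center_cases {z : twoJ2} (hz : z ∈ Subgroup.center twoJ2) :
    z = 1 ∨ (z : Equiv.Perm icoLeech) = negOne := by
  obtain ⟨F, hF⟩ := exists_isLin z.2
  obtain ⟨r, hr | hr, hF'⟩ := isLin_center hF fun k =>
    (congrArg Subtype.val (Subgroup.mem_center_iff.1 hz ⟨R k, R_mem k⟩)).symm
  · refine Or.inl (Subtype.ext (Equiv.ext fun x => Subtype.ext ?_))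
    rw [hF.ext, hF', hr, Quaternion.coe_one, lmul_one]; rfl
  · refine Or.inr (Equiv.ext fun x => Subtype.ext ?_)
    rw [hF.ext, hF', negOne_apply, hr]
    funext t; simp [lmul]

theorem negOne_ne_one : negOne ≠ 1 := fun h => by
  obtain ⟨-, -, hL, hq⟩ := vec_spec (k := 0) (by norm_num)
  have e := negOne_apply ⟨_, hL⟩
  rw [h, Equiv.Perm.one_apply] at e
  have e' : valT (vec 0) + valT (vec 0) = 0 := eq_neg_iff_add_eq_zero.1 e
  have h0 : valT (vec 0) = 0 := funext fun t => by
    have h := congrFun e' t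
    rw [Pi.add_apply, ← two_smul ℝ] at h
    exact (smul_eq_zero.1 h).resolve_left two_ne_zero
  rw [h0] at hq
  have := congrArg (fun x : ℍ[ℝ] => x.re) hq
  rw [show (4 : ℍ[ℝ]) = ((4 : ℝ) : ℍ[ℝ]) from rfl] at this
  simp [qip] at this

theorem card_center : Nat.card (Subgroup.center twoJ2) = 2 := by
  have hS : (Subgroup.center twoJ2 : Set twoJ2) =
      {1, ⟨negOne, mul_mem (mul_mem (R_mem _) (R_mem _)) (R_mem _)⟩} := by
    ext z
    simp only [SetLike.mem_coe, Set.mem_insert_iff, Set.mem_singleton_iff]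
    refine ⟨fun h => (center_cases h).imp id Subtype.ext, ?_⟩
    rintro (rfl | rfl)
    exacts [one_mem _, negOne_mem_center]
  have := Nat.card_coe_set_eq (Subgroup.center twoJ2 : Set twoJ2)
  rw [hS] at this
  rw [← SetLike.coe_sort_coe, hS, this, Set.ncard_pair]
  exact fun h => negOne_ne_one (congrArg Subtype.val h).symm

end Cfsg.Agent.Lib.SporJ2
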