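import Cfsg.Agent.Lib.SporJ2.Group
import Cfsg.Agent.Lib.SporJ2.ChainCent
import Cfsg.Agent.Lib.PGroups.Frattini
import Cfsg.Agent.Lib.FusionP3.GenExtra.Iso

/-!
The centraliser of a reflection in `J₂`: extraspecial of order 32 extended by `A₅`.
-/

set_option autoImplicit false
set_option maxRecDepth 10000

namespace Cfsg.Agent.Lib.SporJ2

open scoped commutatorElement

open Cfsg.Spor Cfsg.Agent.Lib.Computation

/-- The coded representation on 315 points. -/
noncomputable abbrev R315 : Rep (Equiv.Perm (Fin 315)) (Fin 315) := permRep 315 9 (by decide)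
/-- The coded representation on 320 points. -/
noncomputable abbrev R320 : Rep (Equiv.Perm (Fin 320)) (Fin 320) := permRep 320 9 (by decide)

theorem grp_315 : R315.grp p315_chain = K315 := by
  rw [← R315.closure_eq_grp p315_check, K315,
    show Set.range perm315 = decodeP 315 9 '' {s | s ∈ gens315} from range_decode _ gens315_ok.2]
  rw [gens_eq.1]

/-- The stabiliser of the reflection `0`. -/
noncomputable def S315 : Subgroup (Equiv.Perm (Fin 315)) := R315.grp p315_chain.tail

theorem chain315_head : p315_chain.head?.map (fun L => L.base) = some 0 ∧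
    R315.order p315_chain.tail = 1920 := by decide +kernel

theorem mem_S315 (g : Equiv.Perm (Fin 315)) : g ∈ S315 ↔ g ∈ K315 ∧ g 0 = 0 := by
  have hc := R315.checkChain_of_checkClosure p315_check
  have hg := grp_315
  have hb := chain315_head.1
  unfold S315
  revert hc hg hb
  generalize p315_chain = c
  intro hc hg hb
  match c, hb with
  | L :: rest, hb =>
    simp only [List.head?_cons, Option.map_some, Option.some.injEq] at hb
    rw [List.tail_cons, R315.mem_grp_tail_iff hc, hg, hb]
    rfl

theorem checkChain_tail315 : R315.checkChain p315_chain.tail = true := by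
  have hc := R315.checkChain_of_checkClosure p315_check
  revert hc
  generalize p315_chain = c
  intro hc
  match c with
  | [] => exact hc
  | L :: rest => exact R315.checkChain_tail hc

theorem card_S315 : Nat.card S315 = 1920 := by
  rw [S315, R315.card_grp checkChain_tail315, chain315_head.2]

/-- The generators of the stabiliser. -/
def sGens : List ℕ := (p315_chain.getD 1 ⟨0, [], .leaf⟩).gens

theorem sGens_facts : sGens.length = w320_gens.length ∧ w5_gens.length = w320_gens.length ∧
    p315_chain.tail.head?.map (fun L => L.gens) = some sGens := by decide +kernel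

theorem S315_eq : S315 = Subgroup.closure (decodeP 315 9 '' {s | s ∈ sGens}) := by
  have h := sGens_facts.2.2
  unfold S315
  revert h
  generalize p315_chain.tail = c
  intro h
  match c, h with
  | L :: rest, h =>
    simp only [List.head?_cons, Option.map_some, Option.some.injEq] at h
    rw [Rep.grp, Rep.topGens, h]

/-- Pairs of permutations as permutations of 320 points. -/
noncomputable def pair320 : Equiv.Perm (Fin 315) × Equiv.Perm (Fin 5) →* Equiv.Perm (Fin 320) :=
  (finSumFinEquiv (m := 315) (n := 5)).permCongrHom.toMonoidHom.comp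
    (Equiv.Perm.sumCongrHom (Fin 315) (Fin 5))

theorem pair320_injective : Function.Injective pair320 :=
  ((finSumFinEquiv (m := 315) (n := 5)).permCongrHom.injective).comp Equiv.Perm.sumCongrHom_injective

/-- The code of a pair is compatible. -/
def jointOK (c a b : ℕ) : Bool :=
  okPerm 320 9 c && okPerm 315 9 a && okPerm 5 3 b &&
    ((List.range 315).all fun x => Nat.beq (getW 9 c x) (getW 9 a x)) &&
    ((List.range 5).all fun x => Nat.beq (getW 9 c (315 + x)) (315 + getW 3 b x))

theorem pair320_eq {c a b : ℕ} (h : jointOK c a b = true) :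
    pair320 (decodeP 315 9 a, decodeP 5 3 b) = decodeP 320 9 c := by
  simp only [jointOK, Bool.and_eq_true, List.all_eq_true, List.mem_range] at h
  obtain ⟨⟨⟨⟨ok, ok1⟩, ok2⟩, h1⟩, h2⟩ := h
  refine Equiv.ext fun i => ?_
  obtain ⟨s, rfl⟩ := (finSumFinEquiv (m := 315) (n := 5)).surjective i
  refine Fin.ext ?_
  rw [decodeP_apply ok]
  rcases s with x | x
  · simp [pair320]
    show ((decodeP 315 9 a x : Fin 315) : ℕ) = getW 9 c x
    rw [decodeP_apply ok1, Nat.eq_of_beq_eq_true (h1 x x.2)]
  · simp [pair320]
    show 315 + ((decodeP 5 3 b x : Fin 5) : ℕ) = getW 9 c (315 + x)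
    rw [decodeP_apply ok2, Nat.eq_of_beq_eq_true (h2 x x.2)]

/-- A generator on both sets. -/
noncomputable def wgen (i : Fin w320_gens.length) : Equiv.Perm (Fin 315) × Equiv.Perm (Fin 5) :=
  (decodeP 315 9 (sGens.getD i 0), decodeP 5 3 (w5_gens.getD i 0))

/-- The joint group. -/
noncomputable def W : Subgroup (Equiv.Perm (Fin 315) × Equiv.Perm (Fin 5)) :=
  Subgroup.closure (Set.range wgen)

theorem wgen_check : ((List.range w320_gens.length).all fun i =>
    jointOK (w320_gens.getD i 0) (sGens.getD i 0) (w5_gens.getD i 0)) = true := by decide +kernel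

theorem range_fin {n w : ℕ} (L : List ℕ) (k : ℕ) (hk : L.length = k) :
    Set.range (fun i : Fin k => decodeP n w (L.getD i 0)) = decodeP n w '' {s | s ∈ L} := by
  ext σ
  simp only [Set.mem_range, Set.mem_image, Set.mem_setOf_eq]
  constructor
  · rintro ⟨g, rfl⟩
    refine ⟨_, ?_, rfl⟩
    rw [List.getD_eq_getElem _ _ (hk.symm ▸ g.2)]
    exact List.getElem_mem _
  · rintro ⟨s, hs, rfl⟩
    obtain ⟨i, hi, rfl⟩ := List.getElem_of_mem hs
    exact ⟨⟨i, hk ▸ hi⟩, by rw [List.getD_eq_getElem _ _ hi]⟩

theorem map_pair320 : W.map pair320 = R320.grp w320_chain := by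
  rw [W, MonoidHom.map_closure, ← Set.range_comp, ← R320.closure_eq_grp w320_check]
  congr 1
  rw [← range_fin w320_gens w320_gens.length rfl]
  refine congrArg Set.range (funext fun i => ?_)
  exact pair320_eq (List.all_eq_true.1 wgen_check i (List.mem_range.2 i.2))

theorem w_orders : R320.order w320_chain = 1920 ∧ (permRep 5 3 (by decide)).order w5_chain = 60 := by
  decide +kernel

theorem card_W : Nat.card W = 1920 := by
  rw [Nat.card_congr (W.equivMapOfInjective pair320 pair320_injective).toEquiv, map_pair320,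
    R320.card_grp (R320.checkChain_of_checkClosure w320_check), w_orders.1]

theorem map_fst_W : W.map (MonoidHom.fst _ _) = S315 := by
  rw [W, MonoidHom.map_closure, ← Set.range_comp, S315_eq]
  congr 1
  exact range_fin sGens _ sGens_facts.1

/-- The image on five points. -/
noncomputable def A5img : Subgroup (Equiv.Perm (Fin 5)) :=
  Subgroup.closure (decodeP 5 3 '' {s | s ∈ w5_gens})

theorem map_snd_W : W.map (MonoidHom.snd _ _) = A5img := by
  rw [W, MonoidHom.map_closure, ← Set.range_comp, A5img]
  congr 1
  exact range_fin w5_gens _ sGens_facts.2.1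

theorem A5img_eq : A5img = alternatingGroup (Fin 5) := by
  have hcard : Nat.card A5img = 60 :=
    ((permRep 5 3 (by decide)).card_closure w5_check).trans w_orders.2
  have hidx : A5img.index = 2 := by
    have h := A5img.card_mul_index
    rw [hcard, Nat.card_perm, Nat.card_fin] at h
    have : Nat.factorial 5 = 120 := rfl
    omega
  exact Equiv.Perm.eq_alternatingGroup_of_index_eq_two hidx

theorem fst_bijective : Function.Bijective ((MonoidHom.fst _ _).subgroupMap W) :=
  (Nat.bijective_iff_surjective_and_card _).2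
    ⟨(MonoidHom.fst _ _).subgroupMap_surjective W, by rw [card_W, map_fst_W, card_S315]⟩

/-- The joint group projects isomorphically to the stabiliser. -/
noncomputable def eW : W ≃* S315 :=
  (MulEquiv.ofBijective _ fst_bijective).trans (MulEquiv.subgroupCongr map_fst_W)

theorem eW_apply (w : W) : (eW w : Equiv.Perm (Fin 315)) = w.1.1 := rfl

/-- The action of the stabiliser on five points. -/
noncomputable def pi5 : S315 →* Equiv.Perm (Fin 5) :=
  ((MonoidHom.snd _ _).comp W.subtype).comp eW.symm.toMonoidHom

theorem range_pi5 : pi5.range = alternatingGroup (Fin 5) := by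
  rw [← A5img_eq, ← map_snd_W, pi5, MonoidHom.range_comp,
    MonoidHom.range_eq_top.2 eW.symm.surjective, ← MonoidHom.range_eq_map, MonoidHom.range_comp,
    Subgroup.range_subtype]

theorem card_ker : Nat.card pi5.ker = 32 := by
  have h := Subgroup.card_eq_card_quotient_mul_card_subgroup pi5.ker
  rw [card_S315, Nat.card_congr (QuotientGroup.quotientKerEquivRange pi5).toEquiv, range_pi5,
    nat_card_alternatingGroup, Nat.card_fin, show Nat.factorial 5 / 2 = 60 from rfl] at h
  omega

/-- The code on 320 points of an element of the kernel. -/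
def kerCode (a : ℕ) : ℕ :=
  packW 9 (fun x => if x < 315 then getW 9 a x else x) 320

theorem qList_check : (qList.all fun a =>
    jointOK (kerCode a) a (packW 3 (fun x => x) 5) && R320.sift w320_chain (kerCode a)) = true ∧
    qList.length = 32 ∧ qList.Nodup ∧ (qList.all fun a => Nat.beq (packW 9 (fun x => getW 9 a x) 315) a) = true
    := by
  decide +kernel

theorem qList_ok {a : ℕ} (ha : a ∈ qList) : okPerm 315 9 a = true := by
  have h := List.all_eq_true.1 qList_check.1 a ha
  simp only [jointOK, Bool.and_eq_true] at h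
  exact h.1.1.1.1.2

theorem qList_mem {a : ℕ} (ha : a ∈ qList) :
    ∃ h : decodeP 315 9 a ∈ S315, pi5 ⟨_, h⟩ = 1 := by
  have h := List.all_eq_true.1 qList_check.1 a ha
  simp only [Bool.and_eq_true] at h
  have hok : okPerm 320 9 (kerCode a) = true := by
    have := h.1; simp only [jointOK, Bool.and_eq_true] at this; exact this.1.1.1.1
  obtain ⟨h, hs⟩ := h
  generalize kerCode a = c at h hs hok
  have hm := R320.mem_grp_of_sift (R320.checkChain_of_checkClosure w320_check) hok hs
  rw [← map_pair320] at hm
  obtain ⟨w, hw, he⟩ := hm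
  have e1 : decodeP 5 3 (packW 3 (fun x => x) 5) = 1 := (permRep 5 3 (by decide)).val_one
  have hw' : w = (decodeP 315 9 a, 1) :=
    pair320_injective (he.trans ((pair320_eq h).symm.trans (by rw [e1])))
  subst hw'
  have heW : (eW ⟨_, hw⟩ : Equiv.Perm (Fin 315)) = decodeP 315 9 a := eW_apply _
  refine ⟨heW ▸ (eW ⟨_, hw⟩).2, ?_⟩
  have hs : eW.symm ⟨decodeP 315 9 a, heW ▸ (eW ⟨_, hw⟩).2⟩ = ⟨_, hw⟩ := by
    rw [MulEquiv.symm_apply_eq]
    exact Subtype.ext heW.symm
  show (eW.symm _ : W).1.2 = 1
  rw [hs]

theorem code_eq {a b : ℕ} (ha : a ∈ qList) (hb : b ∈ qList) (h : decodeP 315 9 a = decodeP 315 9 b) :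
    a = b := by
  have hw : ∀ c ∈ qList, c = encodeP 315 9 (decodeP 315 9 c) := by
    intro c hc
    have hn := Nat.eq_of_beq_eq_true (List.all_eq_true.1 qList_check.2.2.2 c hc)
    conv_lhs => rw [← hn]
    rw [encodeP]
    have e : ∀ k ≤ 315, packW 9 (fun x => getW 9 c x) k =
        packW 9 (fun x => if h : x < 315 then (decodeP 315 9 c ⟨x, h⟩ : ℕ) else 0) k := by
      intro k hk
      induction k with
      | zero => rfl
      | succ k ih =>
        rw [packW_succ, packW_succ, ih (by omega), dif_pos (show k < 315 by omega),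
          decodeP_apply (qList_ok hc)]
    exact e 315 le_rfl
  rw [hw a ha, hw b hb, h]

/-- The elements of the kernel are those on the list. -/
theorem ker_elems (q : S315) (hq : q ∈ pi5.ker) :
    ∃ a ∈ qList, (q : Equiv.Perm (Fin 315)) = decodeP 315 9 a := by
  classical
  let f : Fin qList.length → pi5.ker := fun i =>
    ⟨⟨decodeP 315 9 qList[i], (qList_mem (List.getElem_mem i.2)).1⟩,
      (qList_mem (List.getElem_mem i.2)).2⟩
  haveI : Finite pi5.ker := Nat.finite_of_card_ne_zero (by rw [card_ker]; norm_num)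
  have hf : Function.Bijective f := (Nat.bijective_iff_injective_and_card _).2
    ⟨fun i j h => Fin.ext ((List.Nodup.getElem_inj_iff qList_check.2.2.1).1
      (code_eq (List.getElem_mem i.2) (List.getElem_mem j.2)
        (congrArg (fun x : pi5.ker => ((x : S315) : Equiv.Perm (Fin 315))) h))),
    by rw [Nat.card_fin, card_ker, qList_check.2.1]⟩
  obtain ⟨i, hi⟩ := hf.2 ⟨q, hq⟩
  exact ⟨_, List.getElem_mem i.2, (congrArg (fun x : pi5.ker => ((x : S315) : Equiv.Perm (Fin 315))) hi).symm⟩

/-- The central involution of the kernel. -/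
def zCode : ℕ := qList.getD 1 0

/-- The identity. -/
def oneCode : ℕ := packW 9 (fun x => x) 315

theorem extra_check : qList.getD 0 0 = oneCode ∧ zCode ∈ qList ∧ zCode ≠ oneCode ∧
    (qList.all fun a => decide (mulP 315 9 a zCode = mulP 315 9 zCode a ∧
      (mulP 315 9 a a = oneCode ∨ mulP 315 9 a a = zCode)) &&
      qList.all fun b => decide (mulP 315 9 a b = mulP 315 9 b a ∨
        mulP 315 9 a b = mulP 315 9 (mulP 315 9 b a) zCode)) = true ∧
    (qList.all fun a => decide (a = oneCode ∨ a = zCode) ||
      qList.any fun b => decide (mulP 315 9 a b = mulP 315 9 (mulP 315 9 b a) zCode)) = true := by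
  decide +kernel

theorem decode_mul {a b : ℕ} (ha : a ∈ qList) (hb : b ∈ qList) :
    decodeP 315 9 (mulP 315 9 a b) = decodeP 315 9 a * decodeP 315 9 b :=
  decodeP_mulP (qList_ok ha) (qList_ok hb)

theorem extraspecial_ker : Cfsg.IsExtraspecial 2 pi5.ker := by
  classical
  obtain ⟨h0, hz, hz1, hall, hcen⟩ := extra_check
  haveI : Fact (Nat.Prime 2) := ⟨Nat.prime_two⟩
  haveI : Finite pi5.ker := Nat.finite_of_card_ne_zero (by rw [card_ker]; norm_num)
  have hP : IsPGroup 2 pi5.ker := IsPGroup.of_card (n := 5) (by rw [card_ker]; norm_num)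
  have one_dec : decodeP 315 9 oneCode = 1 := R315.val_one
  let z : pi5.ker := ⟨⟨decodeP 315 9 zCode, (qList_mem hz).1⟩, (qList_mem hz).2⟩
  have hzne : z ≠ 1 := fun h => hz1 (code_eq hz (h0 ▸ by
    rw [List.getD_eq_getElem _ _ (by rw [qList_check.2.1]; norm_num)]; exact List.getElem_mem _) (by
      rw [one_dec]; exact congrArg (fun x : pi5.ker => ((x : S315) : Equiv.Perm (Fin 315))) h))
  have get : ∀ q : pi5.ker, ∃ a ∈ qList, ((q : S315) : Equiv.Perm (Fin 315)) = decodeP 315 9 a :=
    fun q => ker_elems q.1 q.2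
  have ext' : ∀ p q : pi5.ker, ((p : S315) : Equiv.Perm (Fin 315)) = ((q : S315) : Equiv.Perm (Fin 315)) →
      p = q := fun p q h => Subtype.ext (Subtype.ext h)
  have h1 : ∀ q : pi5.ker, q * z = z * q ∧ (q ^ 2 = 1 ∨ q ^ 2 = z) ∧
      ∀ r : pi5.ker, q * r = r * q ∨ q * r = r * q * z := by
    intro q
    obtain ⟨a, ha, hqa⟩ := get q
    have h := List.all_eq_true.1 hall a ha
    simp only [Bool.and_eq_true, decide_eq_true_eq, List.all_eq_true] at h
    obtain ⟨⟨hc, hsq⟩, hab⟩ := h
    refine ⟨ext' _ _ ?_, ?_, fun r => ?_⟩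
    · simp only [Subgroup.coe_mul, hqa]
      show _ * decodeP 315 9 zCode = decodeP 315 9 zCode * _
      rw [← decode_mul ha hz, hc, decode_mul hz ha]
    · refine hsq.imp (fun e => ext' _ _ ?_) fun e => ext' _ _ ?_
      · rw [pow_two]
        simp only [Subgroup.coe_mul, hqa]
        rw [← decode_mul ha ha, e, one_dec]; rfl
      · rw [pow_two]
        simp only [Subgroup.coe_mul, hqa]
        rw [← decode_mul ha ha, e]
    · obtain ⟨b, hb, hrb⟩ := get r
      refine (hab b hb).imp (fun e => ext' _ _ ?_) fun e => ext' _ _ ?_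
      · simp only [Subgroup.coe_mul, hqa, hrb]
        rw [← decode_mul ha hb, e, decode_mul hb ha]
      · simp only [Subgroup.coe_mul, hqa, hrb]
        show _ = _ * decodeP 315 9 zCode
        rw [← decode_mul ha hb, e, decodeP_mulP (okPerm_mulP (qList_ok hb) (qList_ok ha)) (qList_ok hz),
          decode_mul hb ha]
  have hzc : z ∈ Subgroup.center pi5.ker := Subgroup.mem_center_iff.2 fun q => (h1 q).1
  have hcenter : Subgroup.center pi5.ker = Subgroup.zpowers z := by
    refine le_antisymm (fun q hq => ?_) (Subgroup.zpowers_le.2 hzc)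
    obtain ⟨a, ha, hqa⟩ := get q
    have h := List.all_eq_true.1 hcen a ha
    simp only [Bool.or_eq_true, decide_eq_true_eq, List.any_eq_true] at h
    rcases h with (rfl | rfl) | ⟨b, hb, he⟩
    · rw [show q = 1 from ext' _ _ (by rw [hqa, one_dec]; rfl)]; exact one_mem _
    · rw [show q = z from ext' _ _ hqa]; exact Subgroup.mem_zpowers _
    · exfalso
      let r : pi5.ker := ⟨⟨decodeP 315 9 b, (qList_mem hb).1⟩, (qList_mem hb).2⟩
      have e : q * r = r * q * z := ext' _ _ (by
        simp only [Subgroup.coe_mul, hqa]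
        show _ * decodeP 315 9 b = decodeP 315 9 b * _ * decodeP 315 9 zCode
        rw [← decode_mul ha hb, he, decodeP_mulP (okPerm_mulP (qList_ok hb) (qList_ok ha)) (qList_ok hz),
          decode_mul hb ha])
      rw [Subgroup.mem_center_iff.1 hq r] at e
      exact hzne (mul_eq_left.1 e.symm)
  have hz2 : z ^ 2 = 1 := by
    rcases (h1 z).2.1 with h | h
    · exact h
    · exact absurd (mul_eq_left.1 (by rw [← pow_two]; exact h)) hzne
  have hcard : Nat.card (Subgroup.center pi5.ker) = 2 := by
    rw [hcenter, Nat.card_zpowers]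
    exact orderOf_eq_prime hz2 hzne
  have hcomm : commutator pi5.ker = Subgroup.center pi5.ker := by
    refine le_antisymm ?_ ?_
    · rw [commutator_def, Subgroup.commutator_le]
      intro a _ b _
      rw [hcenter]
      rcases (h1 a).2.2 b with e | e
      · rw [commutatorElement_eq_one_iff_mul_comm.2 e]; exact one_mem _
      · have : ⁅a, b⁆ = z := by
          rw [commutatorElement_def, e, mul_assoc (b * a) z, ← (h1 a⁻¹).1, ← mul_assoc,
            mul_inv_cancel_right, mul_assoc, ← (h1 b⁻¹).1, ← mul_assoc, mul_inv_cancel, one_mul]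
        rw [this]; exact Subgroup.mem_zpowers _
    · rw [hcenter, Subgroup.zpowers_le]
      obtain ⟨a, b, hab⟩ : ∃ a b : pi5.ker, a * b ≠ b * a := by
        by_contra hcon
        push Not at hcon
        have htop : Subgroup.center pi5.ker = ⊤ :=
          eq_top_iff.2 fun x _ => Subgroup.mem_center_iff.2 fun g => hcon g x
        rw [htop, Subgroup.card_top, card_ker] at hcard
        norm_num at hcard
      rcases (h1 a).2.2 b with e | e
      · exact absurd e hab
      · have : ⁅a, b⁆ = z := by
          rw [commutatorElement_def, e, mul_assoc (b * a) z, ← (h1 a⁻¹).1, ← mul_assoc,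
            mul_inv_cancel_right, mul_assoc, ← (h1 b⁻¹).1, ← mul_assoc, mul_inv_cancel, one_mul]
        rw [← this]
        exact Subgroup.commutator_mem_commutator (Subgroup.mem_top _) (Subgroup.mem_top _)
  refine ⟨⟨hP, le_antisymm ?_ (hcomm ▸ PGroups.commutator_le_frattini hP), hcomm⟩, hcard⟩
  refine PGroups.frattini_le_of_pow_commutator (p := 2) _ (fun x => ?_) hcomm.le
  rcases (h1 x).2.1 with h | h <;> rw [h]
  exacts [one_mem _, hzc]

/-! ### Back to `J₂` -/

theorem R_zero_check : ((List.range 315).all fun k =>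
    okRef (vec k) (vec 170) && okRef (vec k) (vec 1) &&
      !decide (refT (vec k) (vec 170) = (qneg (vec 170).1, qneg (vec 170).2.1, qneg (vec 170).2.2) ∧
        refT (vec k) (vec 1) = (qneg (vec 1).1, qneg (vec 1).2.1, qneg (vec 1).2.2))) = true ∧
    okRef (vec 0) (vec 170) = true ∧ okRef (vec 0) (vec 1) = true ∧
    refT (vec 0) (vec 170) = vec 170 ∧ refT (vec 0) (vec 1) = vec 1 := by
  decide +kernel

theorem R_ne_negOne_mul (k : Fin 315) : R k ≠ negOne * R 0 := by
  intro h
  obtain ⟨hall, o1, o2, f1, f2⟩ := R_zero_check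
  have hk := List.all_eq_true.1 hall k (List.mem_range.2 k.2)
  simp only [Bool.and_eq_true, Bool.not_eq_true', decide_eq_false_iff_not] at hk
  obtain ⟨⟨ok1, ok2⟩, hne⟩ := hk
  have key : ∀ i, i < 315 → okRef (vec k) (vec i) = true → okRef (vec 0) (vec i) = true →
      refT (vec 0) (vec i) = vec i →
      refT (vec k) (vec i) = (qneg (vec i).1, qneg (vec i).2.1, qneg (vec i).2.2) := by
    intro i hi hok hok0 hf
    obtain ⟨-, mi, hL, -⟩ := vec_spec hi
    have mk := (vec_spec k.2).2.1
    have m0 := (vec_spec (k := 0) (by norm_num)).2.1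
    have e := congrArg (fun f : Equiv.Perm icoLeech => ((f ⟨_, hL⟩ : icoLeech) : H3)) h
    simp only [Equiv.Perm.mul_apply, negOne_apply, R_apply] at e
    refine valT_injective ?_
    rw [valT_refT mi mk hok, e, show qrefl (valT (vec ((0 : Fin 315) : ℕ))) (valT (vec i)) = valT (vec i) by
      rw [Fin.val_zero, ← valT_refT mi m0 hok0, hf]]
    funext t
    fin_cases t <;> simp [valT, val_qneg]
  exact hne ⟨key 170 (by norm_num) ok1 o1 f1, key 1 (by norm_num) ok2 o2 f2⟩

/-- The class of a reflection in `J₂`. -/
noncomputable def rbar (k : Fin 315) : J2 := QuotientGroup.mk ⟨R k, R_mem k⟩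

theorem mem_centralizer_rbar (x : J2) :
    x ∈ Subgroup.centralizer {rbar 0} ↔ (equiv315 x : Equiv.Perm (Fin 315)) 0 = 0 := by
  induction x using QuotientGroup.induction_on with
  | H g =>
    have he : (equiv315 (QuotientGroup.mk g) : Equiv.Perm (Fin 315)) = act g := rfl
    rw [he, Subgroup.mem_centralizer_singleton_iff, rbar, ← QuotientGroup.mk_mul, ← QuotientGroup.mk_mul]
    constructor
    · intro h
      rw [QuotientGroup.eq] at h
      have hR := R_act g 0
      rcases center_cases h with h1 | h1
      · refine R_injective ?_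
        rw [← hR]
        have h1' := congrArg Subtype.val h1
        simp only [Subgroup.coe_mul, InvMemClass.coe_inv, OneMemClass.coe_one, inv_mul_eq_one] at h1'
        rw [h1']
        group
      · exfalso
        simp only [Subgroup.coe_mul, InvMemClass.coe_inv] at h1
        have hc := negOne_mem_center
        rw [Subgroup.mem_center_iff] at hc
        have hcR : R 0 * negOne = negOne * R 0 := congrArg Subtype.val (hc ⟨R 0, R_mem 0⟩)
        have hcg : (g : Equiv.Perm icoLeech) * negOne = negOne * g := congrArg Subtype.val (hc g)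
        generalize (g : Equiv.Perm icoLeech) = a at h1 hR hcg
        have h2 : a * R 0 * negOne = R 0 * a ∨ R 0 * a * negOne = a * R 0 := by
          first
            | exact Or.inl (by rw [← h1]; group)
            | exact Or.inr (by rw [← h1]; group)
        have hn2 : negOne * negOne = 1 := Equiv.ext fun x => Subtype.ext (by
          rw [Equiv.Perm.mul_apply, negOne_apply, negOne_apply, neg_neg]; rfl)
        refine R_ne_negOne_mul (act g 0) (hR.symm.trans ?_)
        have h3 : a * R 0 = negOne * R 0 * a := by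
          rcases h2 with h2 | h2
          · calc a * R 0 = a * R 0 * (negOne * negOne) := by rw [hn2, mul_one]
              _ = R 0 * a * negOne := by rw [← mul_assoc, h2]
              _ = negOne * R 0 * a := by rw [mul_assoc, hcg, ← mul_assoc, hcR]
          · rw [← h2, mul_assoc, hcg, ← mul_assoc, hcR]
        rw [h3, mul_inv_cancel_right]
    · intro h
      have hR := R_act g 0
      rw [h, mul_inv_eq_iff_eq_mul] at hR
      refine congrArg _ (Subtype.ext ?_)
      show (g : Equiv.Perm icoLeech) * R 0 = R 0 * g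
      exact hR

theorem exists_centralizer_equiv : Nonempty (Subgroup.centralizer {rbar 0} ≃* S315) := by
  have hmap : (Subgroup.centralizer {rbar 0}).map
      ((K315.subtype).comp equiv315.toMonoidHom) = S315 := by
    ext σ
    rw [mem_S315]
    constructor
    · rintro ⟨x, hx, rfl⟩
      exact ⟨(equiv315 x).2, (mem_centralizer_rbar x).1 hx⟩
    · rintro ⟨hσ, h0⟩
      refine ⟨equiv315.symm ⟨σ, hσ⟩, (mem_centralizer_rbar _).2 ?_, ?_⟩
      · rw [MulEquiv.apply_symm_apply]; exact h0
      · show (equiv315 (equiv315.symm ⟨σ, hσ⟩) : Equiv.Perm (Fin 315)) = σ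
        rw [MulEquiv.apply_symm_apply]
  exact ⟨((Subgroup.centralizer {rbar 0}).equivMapOfInjective _
    (Subtype.val_injective.comp equiv315.injective)).trans (MulEquiv.subgroupCongr hmap)⟩

/-- Any group isomorphic to `S315` is extraspecial-by-`A₅`. -/
theorem structure_of_equiv {C : Type*} [Group C] (e : C ≃* S315) :
    ∃ (Q : Subgroup C) (_ : Q.Normal), Nat.card Q = 32 ∧ Cfsg.IsExtraspecial 2 Q ∧
      Nonempty (C ⧸ Q ≃* alternatingGroup (Fin 5)) := by
  haveI : Fact (Nat.Prime 2) := ⟨Nat.prime_two⟩
  let φ : C →* Equiv.Perm (Fin 5) := pi5.comp e.toMonoidHom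
  let eQ : φ.ker ≃* pi5.ker := (e.subgroupMap φ.ker).trans (MulEquiv.subgroupCongr (by
    show Subgroup.map e.toMonoidHom ((pi5.comp e.toMonoidHom).ker) = pi5.ker
    rw [← MonoidHom.comap_ker, Subgroup.map_comap_eq_self_of_surjective e.surjective]))
  haveI : Finite pi5.ker := Nat.finite_of_card_ne_zero (by rw [card_ker]; norm_num)
  haveI : Finite φ.ker := Finite.of_equiv _ eQ.symm.toEquiv
  have hr : φ.range = alternatingGroup (Fin 5) := by
    rw [MonoidHom.range_comp, MonoidHom.range_eq_top.2 e.surjective, ← MonoidHom.range_eq_map, range_pi5]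
  exact ⟨φ.ker, inferInstance, (Nat.card_congr eQ.toEquiv).trans card_ker,
    FusionP3.GenExtra.isExtraspecial_congr eQ.symm extraspecial_ker,
    ⟨(QuotientGroup.quotientKerEquivRange φ).trans (MulEquiv.subgroupCongr hr)⟩⟩

end Cfsg.Agent.Lib.SporJ2
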