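import Cfsg.Agent.Lib.SporJ2.FusionCheck
import Cfsg.Agent.Lib.SporJ2.Group
import Cfsg.Agent.Lib.FusionAlperin.SimpleCentric
import Cfsg.Agent.Lib.MathieuFusion.Criterion

/-!
# The 2-fusion system of `J₂` is simple

The Sylow subgroup has centre generated by an involution `z` whose centraliser is generated by
involutions and normalises a centric subgroup `Q`; the closure of `z` under fusion is everything.
-/

set_option autoImplicit false
set_option maxRecDepth 10000
set_option linter.style.haveILetI false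

namespace Cfsg.Agent.Lib.SporJ2.Fusion

open Cfsg Cfsg.Agent.Lib.Computation

/-- The central involution. -/
noncomputable def zP : Equiv.Perm (Fin 100) := decodeP 100 7 fusZ

theorem decode_oneC : decodeP 100 7 oneC = 1 := R100.val_one

theorem oneC_ok : okPerm 100 7 oneC = true := R100.ok_one

theorem chain100 : R100.checkChain p100_chain = true := R100.checkChain_of_checkClosure p100_check

theorem chainS : R100.checkChain fusS_chain = true := R100.checkChain_of_checkClosure fusS_check

theorem chainM : R100.checkChain fusM_chain = true := R100.checkChain_of_checkClosure fusM_check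

theorem chainQ : R100.checkChain fusQ_chain = true := R100.checkChain_of_checkClosure fusQ_check

theorem K100_eq : K100 = R100.grp p100_chain := by
  have h := R100.closure_eq_grp p100_check
  rw [gens_eq.2.1] at h
  unfold K100
  rw [show Set.range perm100 = decodeP 100 7 '' {s | s ∈ gens100} from range_decode _ gens_eq.2.2.1]
  exact h

theorem gens_ok {gens : List ℕ} {steps : List (Step ℕ)} {c : List (Level ℕ)}
    (h : R100.checkClosure gens steps c = true) {s : ℕ} (hs : s ∈ gens) :
    okPerm 100 7 s = true ∧ decodeP 100 7 s ∈ R100.grp c := by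
  have hc := R100.checkChain_of_checkClosure h
  simp only [Rep.checkClosure, Bool.and_eq_true, List.all_eq_true] at h
  exact ⟨(h.1.2 s hs).1, R100.mem_grp_of_sift hc (h.1.2 s hs).1 (h.1.2 s hs).2⟩

theorem z_facts : okPerm 100 7 fusZ = true ∧ zP ∈ K100 ∧ zP ∈ R100.grp fusS_chain ∧
    zP ∈ R100.grp fusQ_chain := by
  have h := small_ok
  simp only [Bool.and_eq_true] at h
  obtain ⟨⟨⟨⟨⟨⟨⟨⟨h1, h2⟩, h3⟩, h4⟩, -⟩, -⟩, -⟩, -⟩, -⟩ := h
  unfold zP
  have i2 := @Rep.mem_grp_of_sift _ _ _ _ R100 p100_chain chain100 fusZ h1 h2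
  have i3 := @Rep.mem_grp_of_sift _ _ _ _ R100 fusS_chain chainS fusZ h1 h3
  have i4 := @Rep.mem_grp_of_sift _ _ _ _ R100 fusQ_chain chainQ fusZ h1 h4
  rw [← K100_eq] at i2
  exact ⟨h1, i2, i3, i4⟩

theorem S_gen {s : ℕ} (hs : s ∈ fusS_gens) : okPerm 100 7 s = true ∧
    decodeP 100 7 s ∈ K100 ∧ zP * decodeP 100 7 s = decodeP 100 7 s * zP := by
  have h := small_ok
  simp only [Bool.and_eq_true, List.all_eq_true] at h
  have h' := h.1.1.1.1.2 s hs
  have hok := (gens_ok fusS_check hs).1
  exact ⟨hok, K100_eq ▸ R100.mem_grp_of_sift chain100 hok h'.1,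
    (commB_iff z_facts.1 hok).1 h'.2⟩

theorem S_le : R100.grp fusS_chain ≤ K100 := by
  rw [← R100.closure_eq_grp fusS_check, Subgroup.closure_le]
  rintro _ ⟨s, hs, rfl⟩
  exact (S_gen hs).2.1

theorem z_comm {y : Equiv.Perm (Fin 100)} (hy : y ∈ R100.grp fusS_chain) : zP * y = y * zP := by
  rw [← R100.closure_eq_grp fusS_check] at hy
  refine (Subgroup.mem_centralizer_singleton_iff.1
    ((Subgroup.closure_le (Subgroup.centralizer {zP})).2 ?_ hy)).symm
  rintro _ ⟨s, hs, rfl⟩
  exact Subgroup.mem_centralizer_singleton_iff.2 (S_gen hs).2.2.symm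

theorem Q_le : R100.grp fusQ_chain ≤ R100.grp fusS_chain := by
  rw [← R100.closure_eq_grp fusQ_check, Subgroup.closure_le]
  rintro _ ⟨q, hq, rfl⟩
  have h := small_ok
  simp only [Bool.and_eq_true, List.all_eq_true] at h
  exact R100.mem_grp_of_sift chainS (gens_ok fusQ_check hq).1 (h.1.1.1.2 q hq)

theorem card_S : Nat.card (R100.grp fusS_chain) = 128 := by
  have h := small_ok
  simp only [Bool.and_eq_true] at h
  exact (R100.card_grp chainS).trans (Nat.eq_of_beq_eq_true h.1.2)

theorem card_M : Nat.card (R100.grp fusM_chain) = 1920 := by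
  have h := small_ok
  simp only [Bool.and_eq_true] at h
  exact (R100.card_grp chainM).trans (Nat.eq_of_beq_eq_true h.2)

theorem M_gen {m : ℕ} (hm : m ∈ fusM_gens) :
    okPerm 100 7 m = true ∧ decodeP 100 7 m ∈ K100 ∧
      zP * decodeP 100 7 m = decodeP 100 7 m * zP ∧ decodeP 100 7 m * decodeP 100 7 m = 1 ∧
      ∀ q ∈ R100.grp fusQ_chain,
        decodeP 100 7 m * q * (decodeP 100 7 m)⁻¹ ∈ R100.grp fusQ_chain := by
  have h := small_ok
  simp only [Bool.and_eq_true, List.all_eq_true] at h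
  obtain ⟨⟨⟨h1, h2⟩, h3⟩, h4⟩ := h.1.1.2 m hm
  have hok := (gens_ok fusM_check hm).1
  have hinv : decodeP 100 7 m * decodeP 100 7 m = 1 := by
    rw [← decodeP_mulP hok hok, Nat.eq_of_beq_eq_true h3, decode_oneC]
  refine ⟨hok, K100_eq ▸ R100.mem_grp_of_sift chain100 hok h1, (commB_iff z_facts.1 hok).1 h2,
    hinv, fun q hq => ?_⟩
  have hle : R100.grp fusQ_chain ≤
      (R100.grp fusQ_chain).comap (MulAut.conj (decodeP 100 7 m)).toMonoidHom := by
    conv_lhs => rw [← R100.closure_eq_grp fusQ_check]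
    rw [Subgroup.closure_le]
    rintro _ ⟨q, hq, rfl⟩
    have hqok := (gens_ok fusQ_check hq).1
    have hok' : okPerm 100 7 (mulP 100 7 m (mulP 100 7 q m)) = true :=
      okPerm_mulP hok (okPerm_mulP hqok hok)
    have := R100.mem_grp_of_sift chainQ hok' (h4 q hq)
    change decodeP 100 7 (mulP 100 7 m (mulP 100 7 q m)) ∈ _ at this
    rw [decodeP_mulP hok (okPerm_mulP hqok hok), decodeP_mulP hqok hok, ← mul_assoc] at this
    show decodeP 100 7 m * decodeP 100 7 q * (decodeP 100 7 m)⁻¹ ∈ R100.grp fusQ_chain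
    rwa [inv_eq_of_mul_eq_one_right hinv]
  exact hle hq

/-- The conjugates of the central involution. -/
def IsConjZ (y : Equiv.Perm (Fin 100)) : Prop := ∃ g ∈ K100, g * zP * g⁻¹ = y

theorem classRun_spec : ∀ {l : List (ℕ × ℕ × ℕ)} {acc : List ℕ},
    (∀ a ∈ acc, okPerm 100 7 a = true ∧ IsConjZ (decodeP 100 7 a)) → classRun l acc = true →
      ∀ a ∈ acc ++ l.map Prod.fst, okPerm 100 7 a = true ∧ IsConjZ (decodeP 100 7 a) := by
  intro l
  induction l with
  | nil => intro acc hacc _ a ha; exact hacc a (by simpa using ha)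
  | cons r l ih =>
    intro acc hacc h a ha
    obtain ⟨w, p, j⟩ := r
    cases hp : acc[p]? with
    | none => simp [classRun, hp] at h
    | some v =>
      cases hj : p100_gens[j]? with
      | none => simp [classRun, hp, hj] at h
      | some s =>
        simp only [classRun, hp, hj, Bool.and_eq_true, Nat.beq_eq] at h
        obtain ⟨⟨hw, heq⟩, hrest⟩ := h
        obtain ⟨hv, g, hg, hgv⟩ := hacc v (List.mem_of_getElem? hp)
        obtain ⟨hs, hsG⟩ := gens_ok p100_check (List.mem_of_getElem? hj)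
        rw [← K100_eq] at hsG
        have hnew : okPerm 100 7 w = true ∧ IsConjZ (decodeP 100 7 w) := by
          refine ⟨hw, decodeP 100 7 s * g, mul_mem hsG hg, ?_⟩
          have e : decodeP 100 7 w * decodeP 100 7 s = decodeP 100 7 s * decodeP 100 7 v := by
            rw [← decodeP_mulP hw hs, heq, decodeP_mulP hs hv]
          calc decodeP 100 7 s * g * zP * (decodeP 100 7 s * g)⁻¹
              = decodeP 100 7 s * (g * zP * g⁻¹) * (decodeP 100 7 s)⁻¹ := by group
            _ = decodeP 100 7 w := by rw [hgv, ← e, mul_inv_cancel_right]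
        refine ih (acc := acc ++ [w]) ?_ hrest a (by simpa using ha)
        intro b hb
        rcases List.mem_append.1 hb with hb | hb
        · exact hacc b hb
        · exact List.mem_singleton.1 hb ▸ hnew

theorem class_conj {a : ℕ} (ha : a ∈ classList) :
    okPerm 100 7 a = true ∧ IsConjZ (decodeP 100 7 a) :=
  classRun_spec (acc := [fusZ])
    (fun _ hb => List.mem_singleton.1 hb ▸ ⟨z_facts.1, 1, one_mem _, by simp [zP]⟩) class_ok a ha

/-- The images of the base points. -/
def keyP (σ : Equiv.Perm (Fin 100)) : ℕ :=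
  fusBases.foldr (fun b r => (σ (Fin.ofNat 100 b) : ℕ) + 128 * r) 0

theorem keyC_eq {c : ℕ} (hc : okPerm 100 7 c = true) : keyC c = keyP (decodeP 100 7 c) := by
  simp [keyC, keyP, fusBases, decodeP_apply hc]

/-- The centraliser of the central involution is `M`. -/
theorem mem_M_iff {g : Equiv.Perm (Fin 100)} :
    (g ∈ K100 ∧ g * zP = zP * g) ↔ g ∈ R100.grp fusM_chain := by
  let C : Subgroup (Equiv.Perm (Fin 100)) := K100 ⊓ Subgroup.centralizer {zP}
  have hmem : ∀ x, x ∈ C ↔ x ∈ K100 ∧ x * zP = zP * x := fun x => by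
    rw [Subgroup.mem_inf, Subgroup.mem_centralizer_singleton_iff]
  have hle : R100.grp fusM_chain ≤ C := by
    rw [← R100.closure_eq_grp fusM_check, Subgroup.closure_le]
    rintro _ ⟨m, hm, rfl⟩
    exact (hmem _).2 ⟨(M_gen hm).2.1, (M_gen hm).2.2.1.symm⟩
  have hd := distinct_ok
  simp only [distinctOk, Bool.and_eq_true, List.all_eq_true, Nat.beq_eq, Nat.blt, Nat.ble_eq] at hd
  obtain ⟨⟨hlen, hlt⟩, hinc⟩ := hd
  have hnd := isInc_nodup hinc
  let w : Fin fusOrder.length → ℕ := fun i => classList.getD (fusOrder.get i) 0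
  have hw : ∀ i, w i ∈ classList := fun i => by
    have := hlt _ (List.get_mem fusOrder i)
    simp only [w]
    rw [List.getD_eq_getElem _ _ this]
    exact List.getElem_mem _
  choose u hu huz using fun i => (class_conj (hw i)).2
  have hinj : Function.Injective fun p : Fin fusOrder.length × C =>
      (⟨u p.1 * p.2, mul_mem (hu p.1) p.2.2.1⟩ : K100) := by
    rintro ⟨i, c, hc⟩ ⟨j, d, hd⟩ h
    have h' : u i * c = u j * d := congrArg Subtype.val h
    have key : ∀ (k : Fin fusOrder.length) (x : Equiv.Perm (Fin 100)), x ∈ C →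
        u k * x * zP * (u k * x)⁻¹ = decodeP 100 7 (w k) := by
      intro k x hx
      calc u k * x * zP * (u k * x)⁻¹ = u k * (x * zP) * x⁻¹ * (u k)⁻¹ := by group
        _ = u k * zP * (u k)⁻¹ := by rw [((hmem x).1 hx).2]; group
        _ = _ := huz k
    have hk : keyC (w i) = keyC (w j) := by
      rw [keyC_eq (class_conj (hw i)).1, keyC_eq (class_conj (hw j)).1, ← key i c hc,
        ← key j d hd, h']
    have hij : i = j := by
      have hi' : (i : ℕ) < (fusOrder.map fun i => keyC (classList.getD i 0)).length := by simp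
      have hj' : (j : ℕ) < (fusOrder.map fun i => keyC (classList.getD i 0)).length := by simp
      refine Fin.ext ((hnd.getElem_inj_iff (hi := hi') (hj := hj')).1 ?_)
      simpa [w] using hk
    subst hij
    exact Prod.ext rfl (Subtype.ext (mul_left_cancel h'))
  have hcard := Nat.card_le_card_of_injective _ hinj
  rw [Nat.card_prod, Nat.card_fin, hlen, card_K100] at hcard
  have hC : R100.grp fusM_chain = C := Subgroup.eq_of_le_of_card_ge hle (by rw [card_M]; omega)
  rw [hC, hmem]

theorem centre_spec {x : Equiv.Perm (Fin 100)} (hx : x ∈ R100.grp fusS_chain)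
    (hc : ∀ y ∈ R100.grp fusS_chain, x * y = y * x) : x = 1 ∨ x = zP := by
  obtain ⟨a, ha, hax, hf⟩ := allChain_spec chainS oneC_ok centre_ok x hx
  rw [decode_oneC, one_mul] at hax
  simp only [Bool.or_eq_true, Bool.not_eq_true', Nat.beq_eq] at hf
  rcases hf with (hf | rfl) | rfl
  · exfalso
    obtain ⟨s, hs, hne⟩ := List.all_eq_false.mp hf
    refine hne ((commB_iff ha (gens_ok fusS_check hs).1).2 ?_)
    rw [hax]
    exact hc _ (gens_ok fusS_check hs).2
  · exact Or.inl (hax ▸ decode_oneC)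
  · exact Or.inr hax.symm

theorem centric_spec {x : Equiv.Perm (Fin 100)} (hx : x ∈ R100.grp fusM_chain)
    (hc : ∀ y ∈ R100.grp fusQ_chain, x * y = y * x) : x ∈ R100.grp fusQ_chain := by
  obtain ⟨a, ha, hax, hf⟩ := allChain_spec chainM oneC_ok centric_ok x hx
  rw [decode_oneC, one_mul] at hax
  simp only [Bool.or_eq_true, Bool.not_eq_true'] at hf
  rcases hf with hf | hf
  · exfalso
    obtain ⟨q, hq, hne⟩ := List.all_eq_false.mp hf
    refine hne ((commB_iff ha (gens_ok fusQ_check hq).1).2 ?_)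
    rw [hax]
    exact hc _ (gens_ok fusQ_check hq).2
  · rw [← hax]
    exact R100.mem_grp_of_sift chainQ ha hf

theorem wordC_spec (T : Subgroup (Equiv.Perm (Fin 100))) {acc : List ℕ}
    (hacc : ∀ a ∈ acc, okPerm 100 7 a = true ∧ decodeP 100 7 a ∈ T) :
    ∀ {l : List ℕ} {x : ℕ}, wordC acc l = some x → okPerm 100 7 x = true ∧ decodeP 100 7 x ∈ T := by
  intro l
  induction l with
  | nil =>
    intro x hx
    simp only [wordC, Option.some.injEq] at hx
    subst hx
    exact ⟨oneC_ok, decode_oneC ▸ T.one_mem⟩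
  | cons i l ih =>
    intro x hx
    cases hi : acc[i]? with
    | none => simp [wordC, hi] at hx
    | some a =>
      cases hl : wordC acc l with
      | none => simp [wordC, hi, hl] at hx
      | some b =>
        simp only [wordC, hi, hl, Option.some.injEq] at hx
        subst hx
        obtain ⟨hb, hbT⟩ := ih hl
        obtain ⟨ha, haT⟩ := hacc a (List.mem_of_getElem? hi)
        exact ⟨okPerm_mulP ha hb, decodeP_mulP ha hb ▸ T.mul_mem haT hbT⟩

theorem closeRun_spec {T : Subgroup (Equiv.Perm (Fin 100))}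
    (hT : ∀ x ∈ T, ∀ g ∈ K100, g * x * g⁻¹ ∈ R100.grp fusS_chain → g * x * g⁻¹ ∈ T) :
    ∀ {l : List (List ℕ × ℕ × ℕ)} {acc : List ℕ},
      (∀ a ∈ acc, okPerm 100 7 a = true ∧ decodeP 100 7 a ∈ T) → closeRun l acc = true →
        R100.grp fusS_chain ≤ T := by
  intro l
  induction l with
  | nil =>
    intro acc hacc h
    simp only [closeRun, List.all_eq_true, List.any_eq_true, Nat.beq_eq] at h
    rw [← R100.closure_eq_grp fusS_check, Subgroup.closure_le]
    rintro _ ⟨s, hs, rfl⟩
    obtain ⟨t, ht, rfl⟩ := h s hs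
    exact (hacc _ ht).2
  | cons r l ih =>
    intro acc hacc h
    obtain ⟨w, c, ci⟩ := r
    cases hw : wordC acc w with
    | none => simp [closeRun, hw] at h
    | some x =>
      simp only [closeRun, hw, forceNat_eq, Bool.and_eq_true, Nat.beq_eq] at h
      obtain ⟨⟨⟨⟨hc, hci⟩, hcK⟩, hone⟩, hy, hrest⟩ := h
      obtain ⟨hx, hxT⟩ := wordC_spec T hacc hw
      have hinv : decodeP 100 7 ci = (decodeP 100 7 c)⁻¹ :=
        eq_inv_of_mul_eq_one_right (by rw [← decodeP_mulP hc hci, hone, decode_oneC])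
      have hok := okPerm_mulP hc (okPerm_mulP hx hci)
      have hval : decodeP 100 7 (mulP 100 7 c (mulP 100 7 x ci)) =
          decodeP 100 7 c * decodeP 100 7 x * (decodeP 100 7 c)⁻¹ := by
        rw [decodeP_mulP hc (okPerm_mulP hx hci), decodeP_mulP hx hci, hinv, mul_assoc]
      refine ih (fun a ha => ?_) hrest
      rcases List.mem_append.1 ha with ha | ha
      · exact hacc a ha
      · rw [List.mem_singleton.1 ha]
        refine ⟨hok, ?_⟩
        have hyS : decodeP 100 7 (mulP 100 7 c (mulP 100 7 x ci)) ∈ R100.grp fusS_chain :=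
          R100.mem_grp_of_sift chainS hok hy
        rw [hval] at hyS ⊢
        exact hT _ hxT _ (K100_eq ▸ R100.mem_grp_of_sift chain100 hc hcK) hyS

section Group

variable {G : Type*} [Group G] [Finite G]

theorem isSimple_of_hom (f : G →* Equiv.Perm (Fin 100)) (hf : Function.Injective f)
    (hrange : f.range = K100) (S : Sylow 2 G)
    (hS : (S : Subgroup G) = (R100.grp fusS_chain).comap f) :
    (groupFusionSystem (S : Subgroup G)).IsSimple 2 := by
  haveI : Fact (Nat.Prime 2) := ⟨Nat.prime_two⟩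
  have hfK : ∀ g, f g ∈ K100 := fun g => hrange ▸ ⟨g, rfl⟩
  have hK : ∀ {y}, y ∈ K100 → ∃ g, f g = y := fun hy => by rw [← hrange] at hy; exact hy
  have hmem : ∀ g, g ∈ (S : Subgroup G) ↔ f g ∈ R100.grp fusS_chain := fun g => by rw [hS]; rfl
  obtain ⟨z, hz⟩ := hK z_facts.2.1
  let Q : Subgroup G := (R100.grp fusQ_chain).comap f
  have hQS : Q ≤ (S : Subgroup G) := fun g hg => (hmem g).2 (Q_le hg)
  have hzS : z ∈ (S : Subgroup G) := (hmem z).2 (hz.symm ▸ z_facts.2.2.1)
  have hne : (S : Subgroup G) ≠ ⊥ := fun hb => by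
    have hmap : (S : Subgroup G).map f = R100.grp fusS_chain := by
      rw [hS, Subgroup.map_comap_eq_self (hrange ▸ S_le)]
    have := congrArg (fun H : Subgroup (Equiv.Perm (Fin 100)) => Nat.card H) hmap
    simp only [hb, Subgroup.map_bot, Subgroup.card_bot, card_S] at this
    norm_num at this
  have hcentre : ∀ x ∈ (S : Subgroup G), (∀ s ∈ (S : Subgroup G), x * s = s * x) →
      x = 1 ∨ x = z := by
    intro x hx hc
    rcases centre_spec ((hmem x).1 hx) (fun y hy => by
      obtain ⟨s, rfl⟩ := hK (S_le hy)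
      rw [← map_mul, ← map_mul, hc s ((hmem s).2 hy)]) with h | h
    · exact Or.inl (hf (h.trans (map_one f).symm))
    · exact Or.inr (hf (h.trans hz.symm))
  have hzC : ∀ s ∈ (S : Subgroup G), z * s = s * z := fun s hs => hf (by
    rw [map_mul, map_mul, hz]; exact z_comm ((hmem s).1 hs))
  refine FusionAlperin.Simple.isSimple_group_centric S hne ?_ {Q} ?_ ?_
  · intro T hT
    have hTc := MathieuFusion.conjClosed_of_stronglyClosed hT
    by_cases hb : T = ⊥
    · exact Or.inl hb
    refine Or.inr (le_antisymm hT.1 fun s hs => ?_)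
    haveI : (T.subgroupOf (S : Subgroup G)).Normal := ⟨fun x hx s => by
      rw [Subgroup.mem_subgroupOf] at hx ⊢
      exact hTc _ hx s (mul_mem (mul_mem s.2 x.2) (inv_mem s.2))⟩
    have hne' : T.subgroupOf (S : Subgroup G) ≠ ⊥ := fun h => hb (by
      rw [← Subgroup.map_subgroupOf_eq_of_le hT.1, h, Subgroup.map_bot])
    obtain ⟨c, hc⟩ := Subgroup.ne_bot_iff_exists_ne_one.mp
      (PGroups.normal_inf_center_ne_bot S.isPGroup' _ hne')
    have hzT : z ∈ T := by
      rcases hcentre _ (c : ↥(S : Subgroup G)).2 (fun y hy =>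
        (congrArg Subtype.val (Subgroup.mem_center_iff.mp c.2.2 ⟨y, hy⟩)).symm) with h | h
      · exact absurd (Subtype.ext (Subtype.ext h)) hc
      · exact h ▸ c.2.1
    have hle := closeRun_spec (T := T.map f) (acc := [fusZ]) (fun x hx g hg hgx => by
      obtain ⟨t, ht, rfl⟩ := hx
      obtain ⟨a, rfl⟩ := hK hg
      rw [← map_inv, ← map_mul, ← map_mul] at hgx ⊢
      exact Subgroup.mem_map_of_mem f (hTc t ht a ((hmem _).2 hgx)))
      (fun a ha => List.mem_singleton.1 ha ▸
        ⟨z_facts.1, ⟨z, hzT, hz⟩⟩) close_ok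
    obtain ⟨t, ht, hts⟩ := hle ((hmem s).1 hs)
    exact hf hts ▸ ht
  · rintro R rfl
    refine ⟨hQS, FusionAlperin.Simple.isCentric_of_centralizer_le hQS fun y hy => ?_⟩
    refine centric_spec (mem_M_iff.1 ⟨hfK y, ?_⟩) fun q hq => ?_
    · rw [← hz, ← map_mul, ← map_mul, hy z (show f z ∈ _ from hz.symm ▸ z_facts.2.2.2)]
    · obtain ⟨q, rfl⟩ := hK (S_le (Q_le hq))
      rw [← map_mul, ← map_mul, hy q hq]
  · intro β hβ
    obtain ⟨g, -, hgβ⟩ := FS.mem_autInducedBy.1 hβ
    refine Subgroup.mem_iSup_of_mem Q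
      (Subgroup.mem_iSup_of_mem rfl (FS.mem_autInducedBy.2 ⟨g, ?_, hgβ⟩))
    have hgz : g * z * g⁻¹ = z := by
      have hm : g * z * g⁻¹ ∈ (S : Subgroup G) := by rw [← hgβ ⟨z, hzS⟩]; exact (β ⟨z, hzS⟩).2
      rcases hcentre _ hm (fun s hs => by
        have := congrArg β (show (⟨z, hzS⟩ : ↥(S : Subgroup G)) * β.symm ⟨s, hs⟩ =
          β.symm ⟨s, hs⟩ * ⟨z, hzS⟩ from Subtype.ext (hzC _ (β.symm ⟨s, hs⟩).2))
        rw [map_mul, map_mul, MulEquiv.apply_symm_apply] at this
        have h2 := congrArg Subtype.val this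
        rw [Subgroup.coe_mul, Subgroup.coe_mul, hgβ] at h2
        exact h2) with h | h
      · rw [conj_eq_one_iff] at h
        rw [h, mul_one, mul_inv_cancel]
      · exact h
    have hgM : f g ∈ R100.grp fusM_chain := mem_M_iff.1 ⟨hfK g, by
      rw [← hz, ← map_mul, ← map_mul, mul_inv_eq_iff_eq_mul.1 hgz]⟩
    suffices h : R100.grp fusM_chain ≤ (Subgroup.closure
        {g : G | g ∈ Subgroup.normalizer (Q : Set G) ∧ ∃ k : ℕ, orderOf g = 2 ^ k}).map f by
      obtain ⟨a, ha, hag⟩ := h hgM
      exact hf hag ▸ ha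
    rw [← R100.closure_eq_grp fusM_check, Subgroup.closure_le]
    rintro _ ⟨m, hm, rfl⟩
    obtain ⟨-, hmK, -, hm2, hmQ⟩ := M_gen hm
    obtain ⟨x, hx⟩ := hK hmK
    refine ⟨x, Subgroup.subset_closure ⟨?_, ?_⟩, hx⟩
    · refine FS.mem_normalizer_of_conj_mem fun q hq => ?_
      show f (x * q * x⁻¹) ∈ R100.grp fusQ_chain
      rw [map_mul, map_mul, map_inv, hx]
      exact hmQ _ hq
    · obtain ⟨j, -, hj⟩ := (Nat.dvd_prime_pow Nat.prime_two).1
        (show orderOf x ∣ 2 ^ 1 from orderOf_dvd_of_pow_eq_one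
          (hf (by rw [pow_one, sq, map_mul, hx, hm2, map_one])))
      exact ⟨j, hj⟩

theorem fusion_isSimple (e : G ≃* Cfsg.Spor.J2) (S : Sylow 2 G) :
    (groupFusionSystem (S : Subgroup G)).IsSimple 2 := by
  haveI : Fact (Nat.Prime 2) := ⟨Nat.prime_two⟩
  obtain ⟨e2⟩ := exists_equiv_J2
  let f : G →* Equiv.Perm (Fin 100) := K100.subtype.comp (e.trans e2).toMonoidHom
  have hf : Function.Injective f := Subtype.val_injective.comp (e.trans e2).injective
  have hrange : f.range = K100 := by
    rw [MonoidHom.range_comp, MonoidHom.range_eq_top.mpr (e.trans e2).surjective,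
      ← MonoidHom.range_eq_map, Subgroup.range_subtype]
  have hcard : Nat.card ((R100.grp fusS_chain).comap f) = 2 ^ (Nat.card G).factorization 2 := by
    have h0 := congrArg (fun H : Subgroup (Equiv.Perm (Fin 100)) => Nat.card H)
      (Subgroup.map_comap_eq_self (hrange ▸ S_le : R100.grp fusS_chain ≤ f.range))
    simp only [Subgroup.card_map_of_injective hf, card_S] at h0
    rw [h0, Nat.card_congr (e.trans e2).toEquiv, card_K100,
      show (604800 : ℕ) = 2 ^ 7 * 4725 by norm_num,
      Nat.factorization_mul (pow_ne_zero 7 two_ne_zero) (by norm_num), Finsupp.add_apply,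
      Nat.Prime.factorization_pow Nat.prime_two, Finsupp.single_eq_same,
      Nat.factorization_eq_zero_of_not_dvd (by norm_num : ¬ 2 ∣ 4725)]
    norm_num
  obtain ⟨g, hg⟩ := MulAction.exists_smul_eq G (Sylow.ofCard _ hcard) S
  refine isSimple_of_hom (f.comp (MulAut.conj g⁻¹).toMonoidHom)
    (hf.comp (MulAut.conj g⁻¹).injective) ?_ S ?_
  · rw [MonoidHom.range_comp, MonoidHom.range_eq_top.mpr (MulAut.conj g⁻¹).surjective,
      ← MonoidHom.range_eq_map, hrange]
  · rw [← hg, Sylow.coe_subgroup_smul]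
    ext x
    simp [Subgroup.mem_pointwise_smul_iff_inv_smul_mem]

end Group

end Cfsg.Agent.Lib.SporJ2.Fusion
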