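import Cfsg.Agent.Lib.SporJ2.FusionData
import Cfsg.Agent.Lib.SporJ2.Chain100

/-!
# Checks on the certificates for the 2-fusion of `J₂` on 100 points
-/

set_option autoImplicit false
set_option maxRecDepth 10000

namespace Cfsg.Agent.Lib.SporJ2.Fusion

open Cfsg.Agent.Lib.Computation

/-- The representation. -/
noncomputable abbrev R100 := permRep 100 7 (by decide)

/-- The code of the identity. -/
def oneC : ℕ := packW 7 (fun x => x) 100

/-- Every element of the chain, multiplied by `a` on the left, satisfies `f`. -/
def allChain (f : ℕ → Bool) : List (Level ℕ) → ℕ → Bool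
  | [], a => f a
  | L :: c, a => L.orb.toList.all fun e => forceNat (mulP 100 7 a e.fwd) fun a' => allChain f c a'

theorem allChain_spec {f : ℕ → Bool} : ∀ {c : List (Level ℕ)}, R100.checkChain c = true →
    ∀ {a : ℕ}, okPerm 100 7 a = true → allChain f c a = true → ∀ g ∈ R100.grp c,
      ∃ a', okPerm 100 7 a' = true ∧ decodeP 100 7 a' = decodeP 100 7 a * g ∧ f a' = true := by
  intro c
  induction c with
  | nil =>
    intro _ a ha h g hg
    rw [R100.grp_nil, Subgroup.mem_bot] at hg
    exact ⟨a, ha, by rw [hg, mul_one], h⟩
  | cons L rest ih =>
    intro hc a ha h g hg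
    obtain ⟨e, he, k, hk, rfl⟩ := R100.decomp hc hg
    have hok : okPerm 100 7 e.fwd = true := (R100.levelFacts hc).fwd_ok e he
    have h' := List.all_eq_true.mp h e he
    rw [forceNat_eq] at h'
    obtain ⟨a', h1, h2, h3⟩ := ih (R100.checkChain_tail hc) (okPerm_mulP ha hok) h' k hk
    exact ⟨a', h1, by rw [h2, decodeP_mulP ha hok, mul_assoc], h3⟩

/-- Commutation, tested on the points. -/
def commB (a b : ℕ) : Bool :=
  (List.range 100).all fun x => Nat.beq (getW 7 a (getW 7 b x)) (getW 7 b (getW 7 a x))

theorem commB_iff {a b : ℕ} (ha : okPerm 100 7 a = true) (hb : okPerm 100 7 b = true) :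
    commB a b = true ↔
      decodeP 100 7 a * decodeP 100 7 b = decodeP 100 7 b * decodeP 100 7 a := by
  simp only [commB, List.all_eq_true, List.mem_range, Nat.beq_eq, Equiv.ext_iff, Fin.ext_iff,
    Equiv.Perm.mul_apply, decodeP_apply ha, decodeP_apply hb]
  exact ⟨fun h i => h i i.2, fun h x hx => h ⟨x, hx⟩⟩

/-- The images of the base points. -/
def keyC (c : ℕ) : ℕ := fusBases.foldr (fun b r => getW 7 c b + 128 * r) 0

/-- The rows are conjugates of earlier elements. -/
def classRun : List (ℕ × ℕ × ℕ) → List ℕ → Bool
  | [], _ => true
  | (w, p, j) :: l, acc =>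
    match acc[p]?, p100_gens[j]? with
    | some v, some s => okPerm 100 7 w && Nat.beq (mulP 100 7 w s) (mulP 100 7 s v) &&
        classRun l (acc ++ [w])
    | _, _ => false

/-- The class, starting with the central involution. -/
def classList : List ℕ := fusZ :: fusClass.map Prod.fst

/-- The elements of the list are different. -/
def distinctOk : Bool :=
  Nat.beq fusOrder.length 315 && (fusOrder.all fun i => Nat.blt i classList.length) &&
    isInc (fusOrder.map fun i => keyC (classList.getD i 0))

/-- The product of a word in the elements of a list. -/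
def wordC (acc : List ℕ) : List ℕ → Option ℕ
  | [] => some oneC
  | i :: l => match acc[i]?, wordC acc l with
    | some a, some b => some (mulP 100 7 a b)
    | _, _ => none

/-- Conjugates inside the Sylow subgroup of words in earlier elements give its generators. -/
noncomputable def closeRun : List (List ℕ × ℕ × ℕ) → List ℕ → Bool
  | [], acc => fusS_gens.all fun s => acc.any fun t => Nat.beq s t
  | (w, c, ci) :: l, acc =>
    match wordC acc w with
    | some x =>
        okPerm 100 7 c && okPerm 100 7 ci && R100.sift p100_chain c &&
          Nat.beq (mulP 100 7 c ci) oneC &&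
          forceNat (mulP 100 7 c (mulP 100 7 x ci)) fun y =>
            R100.sift fusS_chain y && closeRun l (acc ++ [y])
    | none => false

theorem class_ok : classRun fusClass [fusZ] = true := by decide +kernel

theorem distinct_ok : distinctOk = true := by decide +kernel

theorem close_ok : closeRun fusSteps [fusZ] = true := by decide +kernel

theorem small_ok :
    (okPerm 100 7 fusZ && R100.sift p100_chain fusZ && R100.sift fusS_chain fusZ &&
      R100.sift fusQ_chain fusZ &&
      (fusS_gens.all fun s => R100.sift p100_chain s && commB fusZ s) &&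
      (fusQ_gens.all fun q => R100.sift fusS_chain q) &&
      (fusM_gens.all fun m => R100.sift p100_chain m && commB fusZ m &&
        Nat.beq (mulP 100 7 m m) oneC &&
        fusQ_gens.all fun q => R100.sift fusQ_chain (mulP 100 7 m (mulP 100 7 q m))) &&
      Nat.beq (R100.order fusS_chain) 128 && Nat.beq (R100.order fusM_chain) 1920) = true := by
  decide +kernel

/-- Only `1` and the central involution are central. -/
def centreOk : Bool :=
  allChain (fun a => !(fusS_gens.all fun s => commB a s) || Nat.beq a oneC || Nat.beq a fusZ)
    fusS_chain oneC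

theorem centre_ok : centreOk = true := by decide +kernel

/-- The centraliser of `Q` in `M` is in `Q`. -/
noncomputable def centricOk : Bool :=
  allChain (fun a => !(fusQ_gens.all fun q => commB a q) || R100.sift fusQ_chain a) fusM_chain oneC

theorem centric_ok : centricOk = true := by decide +kernel

end Cfsg.Agent.Lib.SporJ2.Fusion
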