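import Cfsg.Prelude.Def_Spor_J2

/-!
The icosian ring in integer coordinates.

A code `w : Qc` stands for the quaternion whose doubled coordinates are `m + n τ`; the icosians are
the codes satisfying four parity conditions, and `I·h`, `I·h̄` are read off from `w·h̄`, `w·h`.
-/

set_option autoImplicit false

namespace Cfsg.Agent.Lib.SporJ2

open Quaternion Cfsg.Spor

/-- `m + n τ` coded as `(m, n)`. -/
abbrev Zt : Type := ℤ × ℤ

/-- Product in `ℤ[τ]`, with `τ² = τ + 1`. -/
def zm (a b : Zt) : Zt := (a.1 * b.1 + a.2 * b.2, a.1 * b.2 + a.2 * b.1 + a.2 * b.2)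
/-- Sum. -/
def za (a b : Zt) : Zt := (a.1 + b.1, a.2 + b.2)
/-- Difference. -/
def zs (a b : Zt) : Zt := (a.1 - b.1, a.2 - b.2)
/-- Negative. -/
def zn (a : Zt) : Zt := (-a.1, -a.2)

/-- The real value. -/
noncomputable def rt (a : Zt) : ℝ := a.1 + a.2 * tau
/-- The value under the other embedding. -/
noncomputable def rs (a : Zt) : ℝ := a.1 + a.2 * sig

theorem tau_sq : tau * tau = tau + 1 := by
  have h := Real.mul_self_sqrt (show (0 : ℝ) ≤ 5 by norm_num)
  simp only [tau]
  linear_combination h / 4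

theorem sig_sq : sig * sig = sig + 1 := by
  have h := Real.mul_self_sqrt (show (0 : ℝ) ≤ 5 by norm_num)
  simp only [sig]
  linear_combination h / 4

theorem rt_za (a b : Zt) : rt (za a b) = rt a + rt b := by simp [rt, za]; ring
theorem rt_zs (a b : Zt) : rt (zs a b) = rt a - rt b := by simp [rt, zs]; ring
theorem rt_zn (a : Zt) : rt (zn a) = -rt a := by simp [rt, zn]; ring
theorem rt_zm (a b : Zt) : rt (zm a b) = rt a * rt b := by
  simp only [rt, zm]; push_cast; linear_combination -(a.2 * b.2 : ℝ) * tau_sq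
theorem rs_za (a b : Zt) : rs (za a b) = rs a + rs b := by simp [rs, za]; ring
theorem rs_zs (a b : Zt) : rs (zs a b) = rs a - rs b := by simp [rs, zs]; ring
theorem rs_zm (a b : Zt) : rs (zm a b) = rs a * rs b := by
  simp only [rs, zm]; push_cast; linear_combination -(a.2 * b.2 : ℝ) * sig_sq

theorem irrational_sqrt_five : Irrational (Real.sqrt 5) := by
  have := Nat.Prime.irrational_sqrt (p := 5) (by norm_num)
  exact_mod_cast this

theorem rt_injective : Function.Injective rt := by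
  intro a b h
  have e : (2 * (a.1 - b.1) + (a.2 - b.2) : ℤ) + ((a.2 - b.2 : ℤ) : ℝ) * Real.sqrt 5 = 0 := by
    simp only [rt, tau] at h
    push_cast
    linear_combination 2 * h
  by_cases hn : a.2 - b.2 = 0
  · rw [hn] at e
    simp only [Int.cast_zero, zero_mul, add_zero] at e
    have e' : (2 * (a.1 - b.1) : ℤ) = 0 := by exact_mod_cast e
    exact Prod.ext (by omega) (by omega)
  · exact absurd e (((irrational_sqrt_five.intCast_mul hn).intCast_add _).ne_zero)

/-- A coded quaternion. -/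
structure Qc where
  a : Zt
  b : Zt
  c : Zt
  d : Zt
deriving DecidableEq

/-- The quaternion of a code. -/
noncomputable def val (w : Qc) : ℍ[ℝ] := ⟨rt w.a / 2, rt w.b / 2, rt w.c / 2, rt w.d / 2⟩

@[simp] theorem val_re (w : Qc) : (val w).re = rt w.a / 2 := rfl
@[simp] theorem val_imI (w : Qc) : (val w).imI = rt w.b / 2 := rfl
@[simp] theorem val_imJ (w : Qc) : (val w).imJ = rt w.c / 2 := rfl
@[simp] theorem val_imK (w : Qc) : (val w).imK = rt w.d / 2 := rfl
theorem icoH_re : icoH.re = -(Real.sqrt 5) / 2 := rfl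
theorem icoH_imI : icoH.imI = 1 / 2 := rfl
theorem icoH_imJ : icoH.imJ = 1 / 2 := rfl
theorem icoH_imK : icoH.imK = 1 / 2 := rfl

theorem val_injective : Function.Injective val := by
  intro v w h
  have h1 := congrArg (fun q : ℍ[ℝ] => q.re) h
  have h2 := congrArg (fun q : ℍ[ℝ] => q.imI) h
  have h3 := congrArg (fun q : ℍ[ℝ] => q.imJ) h
  have h4 := congrArg (fun q : ℍ[ℝ] => q.imK) h
  simp only [val_re, val_imI, val_imJ, val_imK] at h1 h2 h3 h4
  cases v; cases w
  simp only [Qc.mk.injEq]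
  exact ⟨rt_injective (by linarith), rt_injective (by linarith), rt_injective (by linarith),
    rt_injective (by linarith)⟩

/-- Zero. -/
def qzero : Qc := ⟨(0, 0), (0, 0), (0, 0), (0, 0)⟩
/-- One. -/
def qone : Qc := ⟨(2, 0), (0, 0), (0, 0), (0, 0)⟩
/-- The unit `i`. -/
def qi : Qc := ⟨(0, 0), (2, 0), (0, 0), (0, 0)⟩
/-- `½ (1 + σ i + τ k)`. -/
def qom : Qc := ⟨(1, 0), (1, -1), (0, 0), (0, 1)⟩
/-- The icosian `h`. -/
def qh : Qc := ⟨(1, -2), (1, 0), (1, 0), (1, 0)⟩
/-- Its conjugate. -/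
def qhb : Qc := ⟨(1, -2), (-1, 0), (-1, 0), (-1, 0)⟩
/-- Sum. -/
def qadd (x y : Qc) : Qc := ⟨za x.a y.a, za x.b y.b, za x.c y.c, za x.d y.d⟩
/-- Difference. -/
def qsub (x y : Qc) : Qc := ⟨zs x.a y.a, zs x.b y.b, zs x.c y.c, zs x.d y.d⟩
/-- Negative. -/
def qneg (x : Qc) : Qc := ⟨zn x.a, zn x.b, zn x.c, zn x.d⟩
/-- Conjugate. -/
def qconj (x : Qc) : Qc := ⟨x.a, zn x.b, zn x.c, zn x.d⟩
/-- Twice the product. -/
def qraw (x y : Qc) : Qc :=
  ⟨zs (zs (zs (zm x.a y.a) (zm x.b y.b)) (zm x.c y.c)) (zm x.d y.d),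
   za (za (zm x.a y.b) (zm x.b y.a)) (zs (zm x.c y.d) (zm x.d y.c)),
   za (za (zm x.a y.c) (zm x.c y.a)) (zs (zm x.d y.b) (zm x.b y.d)),
   za (za (zm x.a y.d) (zm x.d y.a)) (zs (zm x.b y.c) (zm x.c y.b))⟩
/-- Half. -/
def qhalf (x : Qc) : Qc :=
  ⟨(x.a.1 / 2, x.a.2 / 2), (x.b.1 / 2, x.b.2 / 2), (x.c.1 / 2, x.c.2 / 2), (x.d.1 / 2, x.d.2 / 2)⟩
/-- All eight integers are even. -/
def qeven (x : Qc) : Bool :=
  x.a.1 % 2 == 0 && x.a.2 % 2 == 0 && x.b.1 % 2 == 0 && x.b.2 % 2 == 0 &&
    x.c.1 % 2 == 0 && x.c.2 % 2 == 0 && x.d.1 % 2 == 0 && x.d.2 % 2 == 0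
/-- The product, when it is integral. -/
def qm (x y : Qc) : Qc := qhalf (qraw x y)

theorem val_qzero : val qzero = 0 := by ext <;> simp [qzero, rt]
theorem val_qone : val qone = 1 := by ext <;> simp [qone, rt]
theorem val_qi : val qi = qI := by ext <;> simp [qi, rt, qI]
theorem val_qom : val qom = ⟨1 / 2, sig / 2, 0, tau / 2⟩ := by
  refine QuaternionAlgebra.ext ?_ ?_ ?_ ?_ <;> simp [qom, rt, sig, tau] <;> ring
theorem val_qh : val qh = icoH := by ext <;> simp [qh, rt, icoH_re, icoH_imI, icoH_imJ, icoH_imK, tau] <;> ring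
theorem val_qhb : val qhb = star icoH := by ext <;> simp [qhb, rt, icoH_re, icoH_imI, icoH_imJ, icoH_imK, tau] <;> ring

theorem val_qadd (x y : Qc) : val (qadd x y) = val x + val y := by
  ext <;> simp [qadd, rt_za] <;> ring
theorem val_qsub (x y : Qc) : val (qsub x y) = val x - val y := by
  ext <;> simp [qsub, rt_zs] <;> ring
theorem val_qneg (x : Qc) : val (qneg x) = -val x := by
  ext <;> simp [qneg, rt_zn] <;> ring
theorem val_qconj (x : Qc) : val (qconj x) = star (val x) := by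
  ext <;> simp [qconj, rt_zn] <;> ring
theorem val_qraw (x y : Qc) : val (qraw x y) = (2 : ℝ) • (val x * val y) := by
  ext <;> simp [qraw, rt_zm, rt_za, rt_zs] <;> ring

theorem qadd_half {x : Qc} (h : qeven x = true) : qadd (qhalf x) (qhalf x) = x := by
  simp only [qeven, Bool.and_eq_true, beq_iff_eq] at h
  obtain ⟨⟨⟨⟨⟨⟨⟨h1, h2⟩, h3⟩, h4⟩, h5⟩, h6⟩, h7⟩, h8⟩ := h
  rcases x with ⟨⟨a, a'⟩, ⟨b, b'⟩, ⟨c, c'⟩, ⟨d, d'⟩⟩
  simp only [qadd, qhalf, za, Qc.mk.injEq, Prod.mk.injEq] at *
  omega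

theorem qhalf_qadd (x : Qc) : qeven (qadd x x) = true ∧ qhalf (qadd x x) = x := by
  rcases x with ⟨⟨a, a'⟩, ⟨b, b'⟩, ⟨c, c'⟩, ⟨d, d'⟩⟩
  simp only [qadd, qhalf, qeven, za, Qc.mk.injEq, Prod.mk.injEq, Bool.and_eq_true, beq_iff_eq]
  omega

theorem val_qhalf {x : Qc} (h : qeven x = true) : (2 : ℝ) • val (qhalf x) = val x := by
  conv_rhs => rw [← qadd_half h, val_qadd]
  rw [two_smul]

theorem val_qm {x y : Qc} (h : qeven (qraw x y) = true) : val (qm x y) = val x * val y := by
  have e := val_qhalf h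
  rw [val_qraw] at e
  exact (smul_right_injective ℍ[ℝ] (two_ne_zero (α := ℝ))) e

/-- Third coordinate with respect to the integral basis. -/
def co3 (w : Qc) : ℤ := w.b.1 - w.a.1 - w.a.2
/-- Fourth coordinate with respect to the integral basis. -/
def co4 (w : Qc) : ℤ := w.b.2 + w.a.2

/-- Membership in the icosian ring. -/
def mem (w : Qc) : Bool :=
  (w.c.1 + w.a.1 + w.a.2 + co3 w + co4 w) % 2 == 0 && (w.c.2 - co3 w) % 2 == 0 &&
    (w.d.1 - w.a.1 - co4 w) % 2 == 0 && (w.d.2 + co3 w + co4 w) % 2 == 0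

/-- The integral basis. -/
def basis : List Qc :=
  [⟨(1, 0), (1, 0), (-1, 0), (1, 0)⟩, ⟨(0, 1), (1, -1), (-1, 0), (0, 0)⟩,
   ⟨(0, 0), (1, 0), (-1, 1), (0, -1)⟩, ⟨(0, 0), (0, 1), (-1, 0), (1, -1)⟩,
   ⟨(0, 0), (0, 0), (2, 0), (0, 0)⟩, ⟨(0, 0), (0, 0), (0, 2), (0, -2)⟩,
   ⟨(0, 0), (0, 0), (0, 0), (2, 0)⟩, ⟨(0, 0), (0, 0), (0, 0), (0, 2)⟩]

/-- The coordinates with respect to `basis`. -/
def coords (w : Qc) : List ℤ :=
  [w.a.1, w.a.2, co3 w, co4 w, (w.c.1 + w.a.1 + w.a.2 + co3 w + co4 w) / 2, (w.c.2 - co3 w) / 2,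
   (w.d.1 - w.a.1 - co4 w) / 2,
   (w.d.2 + co3 w + co4 w + 2 * ((w.c.2 - co3 w) / 2)) / 2]

/-- The additive group spanned by the basis. -/
noncomputable def icoSpan : AddSubgroup ℍ[ℝ] := AddSubgroup.closure {q | ∃ e ∈ basis, val e = q}

theorem mem_qadd {x y : Qc} (hx : mem x = true) (hy : mem y = true) : mem (qadd x y) = true := by
  simp only [mem, co3, co4, qadd, za, Bool.and_eq_true, beq_iff_eq] at *
  omega
theorem mem_qsub {x y : Qc} (hx : mem x = true) (hy : mem y = true) : mem (qsub x y) = true := by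
  simp only [mem, co3, co4, qsub, zs, Bool.and_eq_true, beq_iff_eq] at *
  omega
theorem mem_qneg {x : Qc} (hx : mem x = true) : mem (qneg x) = true := by
  simp only [mem, co3, co4, qneg, zn, Bool.and_eq_true, beq_iff_eq] at *
  omega
theorem mem_qconj {x : Qc} (hx : mem x = true) : mem (qconj x) = true := by
  simp only [mem, co3, co4, qconj, zn, Bool.and_eq_true, beq_iff_eq] at *
  omega

theorem exists_mem_of_mem_span {q : ℍ[ℝ]} (h : q ∈ icoSpan) : ∃ w, mem w = true ∧ val w = q := by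
  induction h using AddSubgroup.closure_induction with
  | mem x hx =>
    obtain ⟨e, he, rfl⟩ := hx
    exact ⟨e, (show ∀ e ∈ basis, mem e = true by decide) e he, rfl⟩
  | zero => exact ⟨qzero, rfl, val_qzero⟩
  | add x y _ _ hx hy =>
    obtain ⟨v, hv, rfl⟩ := hx
    obtain ⟨w, hw, rfl⟩ := hy
    exact ⟨qadd v w, mem_qadd hv hw, val_qadd v w⟩
  | neg x _ hx =>
    obtain ⟨v, hv, rfl⟩ := hx
    exact ⟨qneg v, mem_qneg hv, val_qneg v⟩

theorem val_mem_span {w : Qc} (h : mem w = true) : val w ∈ icoSpan := by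
  have hv : val w = ((coords w).zip basis).foldr (fun p acc => p.1 • val p.2 + acc) 0 := by
    simp only [mem, co3, co4, Bool.and_eq_true, beq_iff_eq] at h
    obtain ⟨⟨⟨h1, h2⟩, h3⟩, h4⟩ := h
    obtain ⟨k1, e1⟩ := Int.dvd_of_emod_eq_zero h1
    obtain ⟨k2, e2⟩ := Int.dvd_of_emod_eq_zero h2
    obtain ⟨k3, e3⟩ := Int.dvd_of_emod_eq_zero h3
    obtain ⟨k4, e4⟩ := Int.dvd_of_emod_eq_zero h4
    simp only [coords, co3, co4, basis, List.zip, List.zipWith, List.foldr, e1, e2, e3]
    rw [show w.d.2 + (w.b.1 - w.a.1 - w.a.2) + (w.b.2 + w.a.2) + 2 * ((2 * k2) / 2) = 2 * (k4 + k2) by omega]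
    simp only [Int.mul_ediv_cancel_left _ (two_ne_zero (α := ℤ))]
    have d1 : (w.c.1 : ℝ) = 2 * k1 - w.a.1 - w.a.2 - (w.b.1 - w.a.1 - w.a.2) - (w.b.2 + w.a.2) := by
      exact_mod_cast (show w.c.1 = 2 * k1 - w.a.1 - w.a.2 - (w.b.1 - w.a.1 - w.a.2) - (w.b.2 + w.a.2) by omega)
    have d2 : (w.c.2 : ℝ) = 2 * k2 + (w.b.1 - w.a.1 - w.a.2) := by
      exact_mod_cast (show w.c.2 = 2 * k2 + (w.b.1 - w.a.1 - w.a.2) by omega)
    have d3 : (w.d.1 : ℝ) = 2 * k3 + w.a.1 + (w.b.2 + w.a.2) := by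
      exact_mod_cast (show w.d.1 = 2 * k3 + w.a.1 + (w.b.2 + w.a.2) by omega)
    have d4 : (w.d.2 : ℝ) = 2 * k4 - (w.b.1 - w.a.1 - w.a.2) - (w.b.2 + w.a.2) := by
      exact_mod_cast (show w.d.2 = 2 * k4 - (w.b.1 - w.a.1 - w.a.2) - (w.b.2 + w.a.2) by omega)
    ext <;> simp [rt, d1, d2, d3, d4] <;> ring
  rw [hv]
  simp only [coords, basis, List.zip, List.zipWith, List.foldr]
  have he : ∀ e ∈ basis, ∀ n : ℤ, n • val e ∈ icoSpan := fun e he n =>
    zsmul_mem (AddSubgroup.subset_closure ⟨e, he, rfl⟩ : val e ∈ icoSpan) n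
  repeat' first
    | exact zero_mem _
    | exact he _ (by decide) _
    | apply add_mem

theorem basis_closed : ∀ e ∈ basis, ∀ f ∈ basis,
    qeven (qraw e f) = true ∧ mem (qm e f) = true := by decide +kernel

theorem mul_mem_span {p q : ℍ[ℝ]} (hp : p ∈ icoSpan) (hq : q ∈ icoSpan) : p * q ∈ icoSpan := by
  induction hp using AddSubgroup.closure_induction with
  | mem x hx =>
    induction hq using AddSubgroup.closure_induction with
    | mem y hy =>
      obtain ⟨e, he, rfl⟩ := hx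
      obtain ⟨f, hf, rfl⟩ := hy
      obtain ⟨h1, h2⟩ := basis_closed e he f hf
      rw [← val_qm h1]
      exact val_mem_span h2
    | zero => rw [mul_zero]; exact zero_mem _
    | add y z _ _ hy hz => rw [mul_add]; exact add_mem hy hz
    | neg y _ hy => rw [mul_neg]; exact neg_mem hy
  | zero => rw [zero_mul]; exact zero_mem _
  | add x y _ _ hx hy => rw [add_mul]; exact add_mem hx hy
  | neg x _ hx => rw [neg_mul]; exact neg_mem hx

theorem qm_spec {x y : Qc} (hx : mem x = true) (hy : mem y = true) :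
    qeven (qraw x y) = true ∧ mem (qm x y) = true ∧ val (qm x y) = val x * val y := by
  obtain ⟨w, hw, he⟩ := exists_mem_of_mem_span (mul_mem_span (val_mem_span hx) (val_mem_span hy))
  have hr : qraw x y = qadd w w := val_injective (by rw [val_qraw, val_qadd, he, two_smul])
  have h2 := qhalf_qadd w
  rw [← hr] at h2
  exact ⟨h2.1, by rw [qm, h2.2]; exact hw, by rw [qm, h2.2, he]⟩

theorem mem_qm {x y : Qc} (hx : mem x = true) (hy : mem y = true) : mem (qm x y) = true :=
  (qm_spec hx hy).2.1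

theorem val_qm' {x y : Qc} (hx : mem x = true) (hy : mem y = true) :
    val (qm x y) = val x * val y :=
  (qm_spec hx hy).2.2

/-- The units of norm one as words in `i` and `qom`: predecessor and letter. -/
def unitPar : List (ℕ × ℕ) :=
  [(0, 0), (0, 0), (0, 1), (1, 0), (1, 1), (2, 0), (2, 1), (3, 0), (3, 1), (4, 0), (4, 1), (5, 1), (6,
   0), (7, 1), (8, 0), (8, 1), (9, 1), (10, 0), (11, 0), (11, 1), (12, 1), (13, 0), (13, 1), (14, 1),
   (15, 0), (16, 0), (16, 1), (17, 1), (18, 1), (19, 0), (20, 0), (20, 1), (21, 1), (22, 0), (23, 0),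
   (23, 1), (24, 1), (25, 1), (26, 0), (27, 0), (27, 1), (28, 1), (29, 1), (30, 1), (32, 0), (32, 1),
   (33, 1), (34, 1), (35, 0), (36, 0), (36, 1), (37, 1), (38, 1), (39, 1), (41, 0), (42, 0), (42, 1),
   (43, 1), (44, 1), (45, 0), (46, 0), (46, 1), (47, 1), (48, 1), (49, 1), (51, 0), (52, 0), (52, 1),
   (53, 1), (54, 1), (55, 1), (57, 0), (58, 1), (59, 1), (60, 1), (62, 0), (63, 0), (63, 1), (64, 1),
   (65, 1), (66, 1), (68, 0), (69, 0), (69, 1), (70, 1), (71, 1), (72, 0), (73, 0), (73, 1), (74, 1),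
   (75, 1), (76, 1), (78, 0), (79, 0), (79, 1), (80, 1), (81, 1), (84, 0), (85, 0), (86, 1), (87, 1),
   (89, 0), (90, 0), (90, 1), (91, 1), (92, 1), (95, 0), (96, 0), (97, 1), (99, 0), (99, 1), (100, 1),
   (101, 1), (104, 0), (105, 0), (106, 1), (108, 0), (111, 0), (112, 0), (113, 1)]

/-- The list built from `unitPar`. -/
def buildUnits : List (ℕ × ℕ) → List Qc → List Qc
  | [], acc => acc
  | p :: ps, acc => buildUnits ps (acc ++ [qm (acc.getD p.1 qone) (if p.2 = 0 then qi else qom)])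

/-- The units of norm one. -/
def units : List Qc := buildUnits (unitPar.tail) [qone]

theorem buildUnits_mem : ∀ (ps : List (ℕ × ℕ)) (acc : List Qc),
    (∀ w ∈ acc, mem w = true ∧ val w ∈ icosians) →
    ∀ w ∈ buildUnits ps acc, mem w = true ∧ val w ∈ icosians
  | [], _, h, w, hw => h w hw
  | p :: ps, acc, h, w, hw => by
    refine buildUnits_mem ps _ (fun v hv => ?_) w hw
    rcases List.mem_append.1 hv with hv | hv
    · exact h v hv
    rw [List.mem_singleton.1 hv]
    obtain ⟨ha, hb⟩ : mem (acc.getD p.1 qone) = true ∧ val (acc.getD p.1 qone) ∈ icosians := by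
      rw [List.getD_eq_getElem?_getD]
      cases hh : acc[p.1]? with
      | none => exact ⟨rfl, by rw [Option.getD_none, val_qone]; exact one_mem _⟩
      | some u => exact h u (List.mem_of_getElem? hh)
    split_ifs
    · exact ⟨mem_qm ha rfl, by
        rw [val_qm' ha rfl]; exact mul_mem hb (by rw [val_qi]; exact Subring.subset_closure (Set.mem_insert _ _))⟩
    · exact ⟨mem_qm ha rfl, by
        rw [val_qm' ha rfl]
        exact mul_mem hb (by rw [val_qom]; exact Subring.subset_closure (Set.mem_insert_of_mem _ rfl))⟩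

theorem units_mem {w : Qc} (hw : w ∈ units) : mem w = true ∧ val w ∈ icosians :=
  buildUnits_mem _ _ (fun v hv => by
    rw [List.mem_singleton.1 hv]; exact ⟨rfl, by rw [val_qone]; exact one_mem _⟩) w hw

theorem basis_units :
    basis = ([[88], [34], [102], [85], [115], [79, 5, 30], [119], [9, 2]] : List (List ℕ)).map
      (fun l => l.foldr (fun i acc => qadd (units.getD i qone) acc) qzero) := by
  decide +kernel

theorem mem_icosians_iff {q : ℍ[ℝ]} : q ∈ icosians ↔ ∃ w, mem w = true ∧ val w = q := by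
  constructor
  · intro hq
    refine exists_mem_of_mem_span ?_
    induction hq using Subring.closure_induction with
    | mem x hx =>
      rcases hx with rfl | rfl
      · exact val_qi ▸ val_mem_span (w := qi) rfl
      · exact val_qom ▸ val_mem_span (w := qom) rfl
    | zero => exact zero_mem _
    | one => exact val_qone ▸ val_mem_span (w := qone) rfl
    | add x y _ _ hx hy => exact add_mem hx hy
    | neg x _ hx => exact neg_mem hx
    | mul x y _ _ hx hy => exact mul_mem_span hx hy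
  · rintro ⟨w, hw, rfl⟩
    have hle : icoSpan ≤ icosians.toAddSubgroup := by
      rw [icoSpan, AddSubgroup.closure_le]
      rintro _ ⟨e, he, rfl⟩
      rw [basis_units, List.mem_map] at he
      obtain ⟨l, -, rfl⟩ := he
      show val _ ∈ icosians
      induction l with
      | nil => exact val_qzero ▸ zero_mem _
      | cons i l ih =>
        rw [List.foldr_cons, val_qadd]
        refine add_mem ?_ ih
        rw [List.getD_eq_getElem?_getD]
        cases hh : units[i]? with
        | none => rw [Option.getD_none, val_qone]; exact one_mem _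
        | some u => exact (units_mem (List.mem_of_getElem? hh)).2
    exact hle (val_mem_span hw)

theorem val_mem_icosians {w : Qc} (h : mem w = true) : val w ∈ icosians :=
  mem_icosians_iff.2 ⟨w, h, rfl⟩

/-- Membership in `I·g`, tested by `w·ḡ ∈ 2I`. -/
def inIdeal (gb : Qc) (w : Qc) : Bool := qeven (qm w gb) && mem (qhalf (qm w gb))

/-- The parities of the coordinates of `w·ḡ`. -/
def par (gb : Qc) (w : Qc) : ℕ :=
  (coords (qm w gb)).foldr (fun c acc => 2 * acc + (c % 2).toNat) 0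

theorem mem_leftIdeal_iff {g gb : Qc} (hg : mem g = true) (hgb : mem gb = true)
    (h2 : val g * val gb = 2) (h2' : val gb * val g = 2) {w : Qc} (hw : mem w = true) :
    val w ∈ leftIdeal (val g) ↔ inIdeal gb w = true := by
  simp only [inIdeal, Bool.and_eq_true]
  constructor
  · rintro ⟨a, ha, he⟩
    obtain ⟨c, hc, rfl⟩ := mem_icosians_iff.1 ha
    have hq : qm w gb = qadd c c := val_injective (by
      rw [val_qm' hw hgb, val_qadd, he, mul_assoc, h2]; exact (mul_two _))
    have := qhalf_qadd c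
    rw [← hq] at this
    exact ⟨this.1, this.2.symm ▸ hc⟩
  · rintro ⟨he, hm⟩
    refine ⟨val (qhalf (qm w gb)), val_mem_icosians hm, ?_⟩
    have h := val_qhalf he
    rw [val_qm' hw hgb] at h
    have h' := congrArg (· * val g) h
    simp only [smul_mul_assoc] at h'
    rw [mul_assoc, h2'] at h'
    have e : (2 : ℝ) • val w = val w * 2 := by rw [mul_two, two_smul]
    rw [← e] at h'
    exact ((smul_right_injective ℍ[ℝ] (two_ne_zero (α := ℝ))) h').symm

theorem coords_qsub {x y : Qc} (hx : mem x = true) (hy : mem y = true) :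
    coords (qsub x y) = List.zipWith (· - ·) (coords x) (coords y) := by
  simp only [mem, co3, co4, Bool.and_eq_true, beq_iff_eq] at hx hy
  simp only [coords, co3, co4, qsub, zs, List.zipWith, List.cons.injEq, and_true]
  refine ⟨?_, ?_, ?_, ?_, ?_, ?_, ?_, ?_⟩ <;> first | omega | (dsimp only; done) | (dsimp only; omega)

theorem coords_even {w : Qc} (he : qeven w = true) (hm : mem (qhalf w) = true) :
    ∀ c ∈ coords w, c % 2 = 0 := by
  simp only [qeven, mem, qhalf, co3, co4, Bool.and_eq_true, beq_iff_eq] at he hm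
  simp only [coords, co3, co4, List.mem_cons, List.not_mem_nil, or_false]
  intro c hc
  rcases hc with rfl | rfl | rfl | rfl | rfl | rfl | rfl | rfl <;> omega

theorem bits_congr : ∀ (l l' : List ℤ), l.length = l'.length →
    (∀ c ∈ List.zipWith (· - ·) l l', c % 2 = 0) →
    l.foldr (fun c acc => 2 * acc + (c % 2).toNat) 0 =
      l'.foldr (fun c acc => 2 * acc + (c % 2).toNat) 0
  | [], [], _, _ => rfl
  | a :: l, b :: l', hl, h => by
    simp only [List.zipWith, List.mem_cons, forall_eq_or_imp] at h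
    simp only [List.foldr]
    rw [bits_congr l l' (by simpa using hl) h.2, show a % 2 = b % 2 by omega]

theorem par_eq_of_inIdeal {gb : Qc} (hgb : mem gb = true) {x y : Qc} (hx : mem x = true)
    (hy : mem y = true) (h : inIdeal gb (qsub x y) = true) : par gb x = par gb y := by
  have hq : qm (qsub x y) gb = qsub (qm x gb) (qm y gb) := val_injective (by
    rw [val_qm' (mem_qsub hx hy) hgb, val_qsub, val_qsub, val_qm' hx hgb, val_qm' hy hgb, sub_mul])
  simp only [inIdeal, Bool.and_eq_true, hq] at h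
  refine bits_congr _ _ rfl ?_
  rw [← coords_qsub (mem_qm hx hgb) (mem_qm hy hgb)]
  exact coords_even h.1 h.2

end Cfsg.Agent.Lib.SporJ2
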