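import Cfsg.Agent.Lib.SporJ2.Icosian

/-!
The icosian Leech lattice in coordinates, quaternionic reflections, and the lattice as the left
`I`-module spanned by three vectors.
-/

set_option autoImplicit false

namespace Cfsg.Agent.Lib.SporJ2

open Quaternion Cfsg.Spor

/-- Vectors of `ℍ³`. -/
abbrev H3 : Type := Fin 3 → ℍ[ℝ]

/-- Left multiplication of a vector by a quaternion. -/
noncomputable def lmul (q : ℍ[ℝ]) (v : H3) : H3 := fun t => q * v t

theorem lmul_lmul (p q : ℍ[ℝ]) (v : H3) : lmul p (lmul q v) = lmul (p * q) v :=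
  funext fun _ => (mul_assoc _ _ _).symm

theorem lmul_one (v : H3) : lmul 1 v = v := funext fun _ => one_mul _

theorem qip_lmul_left (q : ℍ[ℝ]) (x r : H3) : qip (lmul q x) r = q * qip x r := by
  simp [qip, lmul, Finset.mul_sum, mul_assoc]

theorem qip_lmul_right (q : ℍ[ℝ]) (x r : H3) : qip x (lmul q r) = qip x r * star q := by
  simp [qip, lmul, Finset.sum_mul, mul_assoc]

theorem qip_add_left (x y r : H3) : qip (x + y) r = qip x r + qip y r := by
  simp [qip, add_mul, Finset.sum_add_distrib]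

theorem qip_sub_left (x y r : H3) : qip (x - y) r = qip x r - qip y r := by
  simp [qip, sub_mul, Finset.sum_sub_distrib]

theorem qip_sub_right (x r s : H3) : qip x (r - s) = qip x r - qip x s := by
  simp [qip, mul_sub, Finset.sum_sub_distrib]

theorem star_qip (x r : H3) : star (qip x r) = qip r x := by
  simp [qip, star_sum]

theorem qrefl_eq (r x : H3) : qrefl r x = x - lmul ((1 / 2 : ℝ) • qip x r) r := rfl

theorem qrefl_add (r x y : H3) : qrefl r (x + y) = qrefl r x + qrefl r y := by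
  funext t
  simp [qrefl, qip_add_left, smul_add, add_mul]
  abel

theorem qrefl_lmul (r : H3) (q : ℍ[ℝ]) (x : H3) : qrefl r (lmul q x) = lmul q (qrefl r x) := by
  funext t
  show q * x t - ((1 / 2 : ℝ) • qip (lmul q x) r) * r t = q * (x t - ((1 / 2 : ℝ) • qip x r) * r t)
  rw [qip_lmul_left, mul_sub, ← mul_assoc, mul_smul_comm]

theorem half_four : (1 / 2 : ℝ) • (4 : ℍ[ℝ]) = 2 := by
  have : (4 : ℍ[ℝ]) = (2 : ℝ) • 2 := by rw [two_smul]; norm_num
  rw [this, smul_smul]; norm_num

theorem qrefl_self {r : H3} (h : qip r r = 4) : qrefl r r = -r := by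
  funext t
  show r t - ((1 / 2 : ℝ) • qip r r) * r t = -r t
  rw [h, half_four, two_mul]
  abel

theorem qip_qrefl {s : H3} (h : qip s s = 4) (x y : H3) : qip (qrefl s x) (qrefl s y) = qip x y := by
  simp only [qrefl_eq, qip_sub_left, qip_sub_right, qip_lmul_left, qip_lmul_right, h]
  simp only [Quaternion.star_smul, star_qip]
  have e : qip x s * 4 = (4 : ℝ) • qip x s := by
    rw [Algebra.smul_def, map_ofNat]; exact (Commute.ofNat_right _ 4).eq
  simp only [smul_mul_assoc, mul_smul_comm, e, smul_smul, sub_mul]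
  norm_num [two_smul, add_mul]

theorem qrefl_qrefl {s : H3} (h : qip s s = 4) (x : H3) : qrefl s (qrefl s x) = x := by
  have e1 : qip (qrefl s x) s = -qip x s := by
    simp only [qrefl_eq, qip_sub_left, qip_lmul_left, h]
    rw [smul_mul_assoc, show qip x s * 4 = (4 : ℝ) • qip x s by
      rw [Algebra.smul_def, map_ofNat]; exact (Commute.ofNat_right _ 4).eq, smul_smul]
    norm_num [two_smul]
  funext t
  show (x t - _ * s t) - ((1 / 2 : ℝ) • qip (qrefl s x) s) * s t = x t
  rw [e1, smul_neg, neg_mul]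
  abel

theorem qrefl_conj {s : H3} (hs : qip s s = 4) (r x : H3) :
    qrefl (qrefl s r) x = qrefl s (qrefl r (qrefl s x)) := by
  have e : qip (qrefl s x) r = qip x (qrefl s r) := by
    conv_rhs => rw [← qrefl_qrefl hs x]
    rw [qip_qrefl hs]
  rw [qrefl_eq r, show qrefl s (qrefl s x - lmul ((1 / 2 : ℝ) • qip (qrefl s x) r) r) =
      qrefl s (qrefl s x) - qrefl s (lmul ((1 / 2 : ℝ) • qip (qrefl s x) r) r) from ?_,
    qrefl_qrefl hs, qrefl_lmul, e]
  · rfl
  · rw [eq_sub_iff_add_eq, ← qrefl_add, sub_add_cancel]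

theorem qrefl_lmul_unit {q : ℍ[ℝ]} (hq : star q * q = 1) (r x : H3) :
    qrefl (lmul q r) x = qrefl r x := by
  funext t
  show x t - ((1 / 2 : ℝ) • qip x (lmul q r)) * (q * r t) = _
  rw [qip_lmul_right, ← smul_mul_assoc, mul_assoc, ← mul_assoc (star q), hq, one_mul]
  rfl

/-! ### Coordinates -/

/-- A coded vector. -/
abbrev T3 : Type := Qc × Qc × Qc

/-- The vector of a code. -/
noncomputable def valT (t : T3) : H3 := ![val t.1, val t.2.1, val t.2.2]

/-- The three entries are icosians. -/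
def memT (t : T3) : Bool := mem t.1 && mem t.2.1 && mem t.2.2

/-- Membership in the icosian Leech lattice. -/
def okT (t : T3) : Bool :=
  memT t && inIdeal qhb (qsub t.1 t.2.1) && inIdeal qhb (qsub t.2.1 t.2.2) &&
    inIdeal qh (qadd (qadd t.1 t.2.1) t.2.2)

/-- Left multiplication. -/
def scT (u : Qc) (t : T3) : T3 := (qm u t.1, qm u t.2.1, qm u t.2.2)

/-- The hermitian product. -/
def ipT (x r : T3) : Qc :=
  qadd (qadd (qm x.1 (qconj r.1)) (qm x.2.1 (qconj r.2.1))) (qm x.2.2 (qconj r.2.2))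

/-- `x - c r`. -/
def subT (x : T3) (c : Qc) (r : T3) : T3 :=
  (qsub x.1 (qm c r.1), qsub x.2.1 (qm c r.2.1), qsub x.2.2 (qm c r.2.2))

/-- The reflection in `r`. -/
def refT (r x : T3) : T3 := subT x (qhalf (ipT x r)) r

/-- The coefficient of the reflection is integral. -/
def okRef (r x : T3) : Bool := qeven (ipT x r) && mem (qhalf (ipT x r))

theorem valT_injective : Function.Injective valT := fun s t h =>
  Prod.ext (val_injective (congrFun h 0)) (Prod.ext (val_injective (congrFun h 1))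
    (val_injective (congrFun h 2)))

theorem memT_iff {t : T3} : memT t = true ↔ mem t.1 = true ∧ mem t.2.1 = true ∧ mem t.2.2 = true := by
  simp [memT, and_assoc]

theorem val_ipT {x r : T3} (hx : memT x = true) (hr : memT r = true) :
    val (ipT x r) = qip (valT x) (valT r) := by
  obtain ⟨x1, x2, x3⟩ := memT_iff.1 hx
  obtain ⟨r1, r2, r3⟩ := memT_iff.1 hr
  simp [ipT, qip, Fin.sum_univ_three, valT, val_qadd, val_qm' x1 (mem_qconj r1),
    val_qm' x2 (mem_qconj r2), val_qm' x3 (mem_qconj r3), val_qconj]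

theorem mem_ipT {x r : T3} (hx : memT x = true) (hr : memT r = true) : mem (ipT x r) = true := by
  obtain ⟨x1, x2, x3⟩ := memT_iff.1 hx
  obtain ⟨r1, r2, r3⟩ := memT_iff.1 hr
  exact mem_qadd (mem_qadd (mem_qm x1 (mem_qconj r1)) (mem_qm x2 (mem_qconj r2)))
    (mem_qm x3 (mem_qconj r3))

theorem valT_scT {u : Qc} {t : T3} (hu : mem u = true) (ht : memT t = true) :
    valT (scT u t) = lmul (val u) (valT t) := by
  obtain ⟨t1, t2, t3⟩ := memT_iff.1 ht
  funext i
  fin_cases i <;> simp [scT, lmul, valT, val_qm' hu t1, val_qm' hu t2, val_qm' hu t3]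

theorem valT_refT {r x : T3} (hx : memT x = true) (hr : memT r = true) (h : okRef r x = true) :
    valT (refT r x) = qrefl (valT r) (valT x) := by
  simp only [okRef, Bool.and_eq_true] at h
  obtain ⟨r1, r2, r3⟩ := memT_iff.1 hr
  have hc : val (qhalf (ipT x r)) = (1 / 2 : ℝ) • qip (valT x) (valT r) := by
    rw [← val_ipT hx hr, ← val_qhalf h.1, smul_smul]
    norm_num
  funext i
  simp only [qrefl, ← hc]
  fin_cases i <;>
    simp [refT, subT, valT, val_qsub, val_qm' h.2 r1, val_qm' h.2 r2, val_qm' h.2 r3]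

theorem qh_qhb : val qh * val qhb = 2 ∧ val qhb * val qh = 2 := by
  have hh : qm qh qhb = qadd qone qone ∧ qm qhb qh = qadd qone qone := by decide +kernel
  rw [← val_qm' (x := qh) (y := qhb) rfl rfl, ← val_qm' (x := qhb) (y := qh) rfl rfl, hh.1, hh.2,
    val_qadd, val_qone]
  exact ⟨one_add_one_eq_two, one_add_one_eq_two⟩

theorem leftIdeal_icoH_iff {w : Qc} (hw : mem w = true) :
    val w ∈ leftIdeal icoH ↔ inIdeal qhb w = true := by
  rw [← val_qh]
  exact mem_leftIdeal_iff rfl rfl qh_qhb.1 qh_qhb.2 hw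

theorem leftIdeal_star_icoH_iff {w : Qc} (hw : mem w = true) :
    val w ∈ leftIdeal (star icoH) ↔ inIdeal qh w = true := by
  rw [← val_qhb]
  exact mem_leftIdeal_iff rfl rfl qh_qhb.2 qh_qhb.1 hw

theorem mem_icoLeech_iff {v : H3} : v ∈ icoLeech ↔ ∃ t, okT t = true ∧ valT t = v := by
  constructor
  · rintro ⟨hv, h1, h2, h3⟩
    obtain ⟨a, ha, hea⟩ := mem_icosians_iff.1 (hv 0)
    obtain ⟨b, hb, heb⟩ := mem_icosians_iff.1 (hv 1)
    obtain ⟨c, hc, hec⟩ := mem_icosians_iff.1 (hv 2)
    rw [← hea, ← heb, ← val_qsub, leftIdeal_icoH_iff (mem_qsub ha hb)] at h1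
    rw [← heb, ← hec, ← val_qsub, leftIdeal_icoH_iff (mem_qsub hb hc)] at h2
    rw [← hea, ← heb, ← hec, ← val_qadd, ← val_qadd,
      leftIdeal_star_icoH_iff (mem_qadd (mem_qadd ha hb) hc)] at h3
    refine ⟨(a, b, c), by simp [okT, memT, ha, hb, hc, h1, h2, h3], ?_⟩
    funext i
    fin_cases i <;> simp [valT, hea, heb, hec]
  · rintro ⟨⟨a, b, c⟩, h, rfl⟩
    simp only [okT, Bool.and_eq_true] at h
    obtain ⟨⟨⟨hm, h1⟩, h2⟩, h3⟩ := h
    obtain ⟨ha, hb, hc⟩ := memT_iff.1 hm
    refine ⟨fun t => ?_, ?_, ?_, ?_⟩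
    · fin_cases t
      exacts [val_mem_icosians ha, val_mem_icosians hb, val_mem_icosians hc]
    · show val a - val b ∈ _
      rw [← val_qsub, leftIdeal_icoH_iff (mem_qsub ha hb)]; exact h1
    · show val b - val c ∈ _
      rw [← val_qsub, leftIdeal_icoH_iff (mem_qsub hb hc)]; exact h2
    · show val a + val b + val c ∈ _
      rw [← val_qadd, ← val_qadd, leftIdeal_star_icoH_iff (mem_qadd (mem_qadd ha hb) hc)]; exact h3

theorem add_mem_leftIdeal {g x y : ℍ[ℝ]} (hx : x ∈ leftIdeal g) (hy : y ∈ leftIdeal g) :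
    x + y ∈ leftIdeal g := by
  obtain ⟨a, ha, rfl⟩ := hx
  obtain ⟨b, hb, rfl⟩ := hy
  exact ⟨a + b, add_mem ha hb, (add_mul a b g).symm⟩

theorem mul_mem_leftIdeal {g x u : ℍ[ℝ]} (hu : u ∈ icosians) (hx : x ∈ leftIdeal g) :
    u * x ∈ leftIdeal g := by
  obtain ⟨a, ha, rfl⟩ := hx
  exact ⟨u * a, mul_mem hu ha, (mul_assoc u a g).symm⟩

theorem add_mem_icoLeech {x y : H3} (hx : x ∈ icoLeech) (hy : y ∈ icoLeech) : x + y ∈ icoLeech := by
  refine ⟨fun t => add_mem (hx.1 t) (hy.1 t), ?_, ?_, ?_⟩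
  · have := add_mem_leftIdeal hx.2.1 hy.2.1
    convert this using 1; simp; abel
  · have := add_mem_leftIdeal hx.2.2.1 hy.2.2.1
    convert this using 1; simp; abel
  · have := add_mem_leftIdeal hx.2.2.2 hy.2.2.2
    convert this using 1; simp; abel

theorem lmul_mem_icoLeech {u : ℍ[ℝ]} (hu : u ∈ icosians) {x : H3} (hx : x ∈ icoLeech) :
    lmul u x ∈ icoLeech := by
  refine ⟨fun t => mul_mem hu (hx.1 t), ?_, ?_, ?_⟩
  · show u * x 0 - u * x 1 ∈ _
    rw [← mul_sub]; exact mul_mem_leftIdeal hu hx.2.1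
  · show u * x 1 - u * x 2 ∈ _
    rw [← mul_sub]; exact mul_mem_leftIdeal hu hx.2.2.1
  · show u * x 0 + u * x 1 + u * x 2 ∈ _
    rw [← mul_add, ← mul_add]; exact mul_mem_leftIdeal hu hx.2.2.2

/-- `p = h - h̄`. -/
def qp : Qc := qsub qh qhb
/-- `q = h + h̄`, so that `p h + q h̄ = 1`. -/
def qq : Qc := qadd qh qhb
/-- The third entry of the first basis vector. -/
def qz : Qc := qsub qone (qm (qadd (qadd qp qp) qp) qh)
/-- `(2 + z) / h̄`. -/
def qz2 : Qc := qhalf (qm (qadd (qadd qone qone) qz) qh)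

/-- Three vectors spanning the lattice over the icosians. -/
def latBasis : List T3 :=
  [(qone, qone, qz), (qzero, qh, qneg qh), (qzero, qzero, qadd qone qone)]

theorem span_consts :
    qadd (qm qp qh) (qm qq qhb) = qone ∧ qm (qm qhb qp) qh = qadd qp qp ∧
      qm (qm qh qq) qhb = qadd qq qq ∧ qadd (qadd qone qone) qz = qm qz2 qhb ∧
      mem qp = true ∧ mem qq = true ∧ mem qz = true ∧ mem qz2 = true := by
  decide +kernel

/-- The lattice is spanned by three vectors. -/
theorem exists_coeffs {x : H3} (hx : x ∈ icoLeech) :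
    ∃ a ∈ icosians, ∃ b ∈ icosians, ∃ e ∈ icosians, x = lmul a (valT (qone, qone, qz)) +
      lmul b (valT (qzero, qh, qneg qh)) + lmul e (valT (qzero, qzero, qadd qone qone)) := by
  obtain ⟨c1, c2, c3, c4, mp, mq, mz, mz2⟩ := span_consts
  have e1 : val qp * val qh + val qq * val qhb = 1 := by
    rw [← val_qm' mp rfl, ← val_qm' mq rfl, ← val_qadd, c1, val_qone]
  have e2 : val qhb * val qp * val qh = val qp + val qp := by
    rw [← val_qm' rfl mp, ← val_qm' (mem_qm rfl mp) rfl, c2, val_qadd]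
  have e3 : val qh * val qq * val qhb = val qq + val qq := by
    rw [← val_qm' rfl mq, ← val_qm' (mem_qm rfl mq) rfl, c3, val_qadd]
  have e4 : (1 : ℍ[ℝ]) + 1 + val qz = val qz2 * val qhb := by
    rw [← val_qm' mz2 rfl, ← c4, val_qadd, val_qadd, val_qone]
  have ez : val qz = 1 - (val qp + val qp + val qp) * val qh := by
    rw [qz, val_qsub, val_qone, val_qm' (mem_qadd (mem_qadd mp mp) mp) rfl, val_qadd, val_qadd]
  obtain ⟨hI, ⟨b', hb', hb⟩, ⟨c', hc', hc⟩, ⟨s', hs', hs⟩⟩ := hx
  have hp := val_mem_icosians mp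
  have hq := val_mem_icosians mq
  -- `d` is what remains in the last coordinate
  set d := x 2 - x 0 * val qz + (-b') * val qh with hd
  have hd1 : d = (-c' + (-b' + -b') + x 0 * (val qp + val qp + val qp)) * val qh := by
    have hb2 : b' * val qh = x 0 - x 1 := by rw [val_qh, hb]
    have hc2 : c' * val qh = x 1 - x 2 := by rw [val_qh, hc]
    rw [hd, ez, mul_sub, mul_one, ← mul_assoc]
    simp only [add_mul, neg_mul, hb2, hc2]
    abel
  have hd2 : d = (s' - x 0 * val qz2) * val qhb := by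
    rw [hd, sub_mul, mul_assoc, ← e4, val_qhb, ← hs, val_qh, neg_mul, ← hb, mul_add, mul_add, mul_one]
    abel
  have hm1 : -c' + (-b' + -b') + x 0 * (val qp + val qp + val qp) ∈ icosians :=
    add_mem (add_mem (neg_mem hc') (add_mem (neg_mem hb') (neg_mem hb')))
      (mul_mem (hI 0) (add_mem (add_mem hp hp) hp))
  have hm2 : s' - x 0 * val qz2 ∈ icosians := sub_mem hs' (mul_mem (hI 0) (val_mem_icosians mz2))
  generalize -c' + (-b' + -b') + x 0 * (val qp + val qp + val qp) = a1 at hd1 hm1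
  generalize s' - x 0 * val qz2 = a2 at hd2 hm2
  refine ⟨x 0, hI 0, -b', neg_mem hb', a2 * val qp + a1 * val qq,
    add_mem (mul_mem hm2 hp) (mul_mem hm1 hq), ?_⟩
  have hde : d = (a2 * val qp + a1 * val qq) * (1 + 1) := by
    calc d = d * (val qp * val qh + val qq * val qhb) := by rw [e1, mul_one]
      _ = a2 * (val qhb * val qp * val qh) + a1 * (val qh * val qq * val qhb) := by
        rw [mul_add]
        conv_lhs => arg 1; rw [hd2]
        conv_lhs => arg 2; rw [hd1]
        simp only [mul_assoc]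
      _ = _ := by rw [e2, e3]; noncomm_ring
  funext i
  fin_cases i
  · simp [lmul, valT, val_qone, val_qzero]
  · simp only [Pi.add_apply, lmul, valT]
    simp [val_qone, val_qzero, val_qh, ← hb]
  · simp only [Pi.add_apply, lmul, valT]
    simp [val_qneg, val_qadd, val_qone, val_qzero]
    rw [← hde, hd]
    simp only [neg_mul]
    abel

/-- Reflections of minimal vectors with integral coefficients on the three spanning vectors. -/
theorem qrefl_mapsTo {r : T3} (hr : okT r = true)
    (h : (latBasis.all fun x => okRef r x && okT (refT r x)) = true)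
    {x : H3} (hx : x ∈ icoLeech) : qrefl (valT r) x ∈ icoLeech := by
  obtain ⟨a, ha, b, hb, e, he, rfl⟩ := exists_coeffs hx
  have key : ∀ v ∈ latBasis, ∀ u ∈ icosians, qrefl (valT r) (lmul u (valT v)) ∈ icoLeech := by
    intro v hv u hu
    have hc := List.all_eq_true.1 h v hv
    simp only [Bool.and_eq_true] at hc
    have hm : memT r = true := by
      simp only [okT, Bool.and_eq_true] at hr; exact hr.1.1.1
    have hvm : memT v = true := (show latBasis.all memT = true by decide +kernel) |>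
      List.all_eq_true.1 |> fun h => h v hv
    rw [qrefl_lmul, ← valT_refT hvm hm hc.1]
    exact lmul_mem_icoLeech hu (mem_icoLeech_iff.2 ⟨_, hc.2, rfl⟩)
  rw [qrefl_add, qrefl_add]
  exact add_mem_icoLeech (add_mem_icoLeech (key _ (by simp [latBasis]) a ha)
    (key _ (by simp [latBasis]) b hb)) (key _ (by simp [latBasis]) e he)

/-- A reflection as a permutation of the lattice. -/
noncomputable def reflPerm (r : H3) (h : qip r r = 4)
    (hmap : ∀ x ∈ icoLeech, qrefl r x ∈ icoLeech) : Equiv.Perm icoLeech :=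
  Function.Involutive.toPerm (fun x => ⟨qrefl r x.1, hmap _ x.2⟩)
    (fun x => Subtype.ext (qrefl_qrefl h x.1))

end Cfsg.Agent.Lib.SporJ2
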