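import Cfsg.Agent.Lib.SporJ2.Lattice
import Cfsg.Agent.Lib.SporJ2.MinData

/-!
Kernel checks for the completeness of the 315 minimal vectors up to units.
-/

set_option autoImplicit false

namespace Cfsg.Agent.Lib.SporJ2

open Quaternion Cfsg.Spor

/-- Both embeddings are nonnegative. -/
def okrem (a : Zt) : Bool :=
  decide (0 ≤ 2 * a.1 + a.2 ∧ 0 ≤ a.1 * a.1 + a.1 * a.2 - a.2 * a.2)

theorem okrem_of {a : Zt} (h1 : 0 ≤ rt a) (h2 : 0 ≤ rs a) : okrem a = true := by
  have hs := Real.mul_self_sqrt (show (0 : ℝ) ≤ 5 by norm_num)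
  have e1 : rt a + rs a = ((2 * a.1 + a.2 : ℤ) : ℝ) := by
    simp only [rt, rs, tau, sig]; push_cast; ring
  have e2 : rt a * rs a = ((a.1 * a.1 + a.1 * a.2 - a.2 * a.2 : ℤ) : ℝ) := by
    simp only [rt, rs, tau, sig]; push_cast; linear_combination -(a.2 * a.2 : ℝ) / 4 * hs
  have g1 := e1 ▸ add_nonneg h1 h2
  have g2 := e2 ▸ mul_nonneg h1 h2
  simp only [okrem, decide_eq_true_eq]
  exact ⟨by exact_mod_cast g1, by exact_mod_cast g2⟩

/-- The sum of the squares of the four coordinates. -/
def nsum (w : Qc) : Zt := za (za (zm w.a w.a) (zm w.b w.b)) (za (zm w.c w.c) (zm w.d w.d))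

theorem normSq_val (w : Qc) : Quaternion.normSq (val w) = rt (nsum w) / 4 := by
  rw [Quaternion.normSq_def']
  simp only [val_re, val_imI, val_imJ, val_imK, nsum, rt_za, rt_zm]
  ring

theorem rs_nsum_nonneg (w : Qc) : 0 ≤ rs (nsum w) := by
  simp only [nsum, rs_za, rs_zm]
  have := mul_self_nonneg (rs w.a); have := mul_self_nonneg (rs w.b)
  have := mul_self_nonneg (rs w.c); have := mul_self_nonneg (rs w.d)
  linarith

theorem rt_nsum_nonneg (w : Qc) : 0 ≤ rt (nsum w) := by
  simp only [nsum, rt_za, rt_zm]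
  have := mul_self_nonneg (rt w.a); have := mul_self_nonneg (rt w.b)
  have := mul_self_nonneg (rt w.c); have := mul_self_nonneg (rt w.d)
  linarith

/-- The coordinate pairs with both squares at most 16, by parity. -/
def pp : Bool → Bool → List Zt
  | false, false => [(-4, 0), (-2, 0), (-2, 2), (0, -2), (0, 0), (0, 2), (2, -2), (2, 0), (4, 0)]
  | false, true => [(-2, -1), (-2, 1), (-2, 3), (0, -1), (0, 1), (2, -3), (2, -1), (2, 1)]
  | true, false => [(-3, 0), (-1, 0), (-1, 2), (1, -2), (1, 0), (3, 0)]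
  | true, true => [(-3, 1), (-1, -1), (-1, 1), (-1, 3), (1, -3), (1, -1), (1, 1), (3, -1)]

/-- All coordinate pairs with both squares at most 16. -/
def box : List Zt := pp false false ++ pp false true ++ pp true false ++ pp true true

theorem box_complete : ((List.range 11).all fun i => (List.range 7).all fun j =>
    !okrem (zs (16, 0) (zm ((i : ℤ) - 5, (j : ℤ) - 3) ((i : ℤ) - 5, (j : ℤ) - 3))) ||
      (pp (((i : ℤ) - 5) % 2 == 1) (((j : ℤ) - 3) % 2 == 1)).contains ((i : ℤ) - 5, (j : ℤ) - 3)) =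
    true := by decide +kernel

theorem mem_pp {a : Zt} {X : Zt} (h : okrem (zs X (zm a a)) = true) (hX1 : rt X ≤ 16)
    (hX2 : rs X ≤ 16) : a ∈ pp (a.1 % 2 == 1) (a.2 % 2 == 1) ∧ a ∈ box := by
  obtain ⟨g1, g2⟩ : 0 ≤ rt X - rt a * rt a ∧ 0 ≤ rs X - rs a * rs a := by
    simp only [okrem, decide_eq_true_eq] at h
    have hsum : (0 : ℝ) ≤ rt (zs X (zm a a)) + rs (zs X (zm a a)) := by
      have : rt (zs X (zm a a)) + rs (zs X (zm a a)) =
          ((2 * (zs X (zm a a)).1 + (zs X (zm a a)).2 : ℤ) : ℝ) := by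
        simp only [rt, rs, tau, sig]; push_cast; ring
      rw [this]; exact_mod_cast h.1
    have hprod : (0 : ℝ) ≤ rt (zs X (zm a a)) * rs (zs X (zm a a)) := by
      have hs := Real.mul_self_sqrt (show (0 : ℝ) ≤ 5 by norm_num)
      have : rt (zs X (zm a a)) * rs (zs X (zm a a)) =
          (((zs X (zm a a)).1 * (zs X (zm a a)).1 + (zs X (zm a a)).1 * (zs X (zm a a)).2 -
            (zs X (zm a a)).2 * (zs X (zm a a)).2 : ℤ) : ℝ) := by
        simp only [rt, rs, tau, sig]; push_cast
        linear_combination -((((zs X (zm a a)).2 : ℝ) * (zs X (zm a a)).2)) / 4 * hs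
      rw [this]; exact_mod_cast h.2
    rw [← rt_zm, ← rt_zs, ← rs_zm, ← rs_zs]
    constructor <;> nlinarith
  have hs := Real.mul_self_sqrt (show (0 : ℝ) ≤ 5 by norm_num)
  have e : rt a * rt a + rs a * rs a =
      ((2 * a.1 * a.1 + 2 * a.1 * a.2 + 3 * a.2 * a.2 : ℤ) : ℝ) := by
    simp only [rt, rs, tau, sig]; push_cast; linear_combination (a.2 * a.2 : ℝ) / 2 * hs
  have hb : 2 * a.1 * a.1 + 2 * a.1 * a.2 + 3 * a.2 * a.2 ≤ (32 : ℤ) := by
    have : rt a * rt a + rs a * rs a ≤ 32 := by linarith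
    rw [e] at this; exact_mod_cast this
  have b1 : -3 ≤ a.2 ∧ a.2 ≤ 3 := by constructor <;> nlinarith [sq_nonneg (2 * a.1 + a.2)]
  have b2 : -5 ≤ a.1 ∧ a.1 ≤ 5 := by constructor <;> nlinarith [sq_nonneg (a.1 + 3 * a.2)]
  have key := List.all_eq_true.1 (List.all_eq_true.1 box_complete (a.1 + 5).toNat
    (List.mem_range.2 (by omega))) (a.2 + 3).toNat (List.mem_range.2 (by omega))
  rw [Int.toNat_of_nonneg (by omega), Int.toNat_of_nonneg (by omega), add_sub_cancel_right,
    add_sub_cancel_right] at key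
  have hr : okrem (zs (16, 0) (zm a a)) = true := okrem_of
    (by rw [rt_zs, rt_zm, show rt (16, 0) = 16 by simp [rt]]; linarith)
    (by rw [rs_zs, rs_zm, show rs (16, 0) = 16 by simp [rs]]; linarith)
  rw [show ((a.1, a.2) : Zt) = a from rfl, hr, Bool.not_true, Bool.false_or,
    List.contains_iff_mem] at key
  have hm := key
  refine ⟨hm, ?_⟩
  generalize (a.1 % 2 == 1) = p at hm
  generalize (a.2 % 2 == 1) = q at hm
  simp only [box, List.mem_append]
  cases p <;> cases q <;> tauto

/-! ### The data -/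

/-- Pack a code into 40 bits. -/
def enc (w : Qc) : ℕ :=
  (w.a.1 + 16).toNat + 32 * ((w.a.2 + 16).toNat + 32 * ((w.b.1 + 16).toNat +
    32 * ((w.b.2 + 16).toNat + 32 * ((w.c.1 + 16).toNat + 32 * ((w.c.2 + 16).toNat +
    32 * ((w.d.1 + 16).toNat + 32 * (w.d.2 + 16).toNat))))))

/-- One 5-bit field. -/
def fieldZ (n i : ℕ) : ℤ := ((n / 32 ^ i % 32 : ℕ) : ℤ) - 16

/-- Unpack a code. -/
def dec (n : ℕ) : Qc :=
  ⟨(fieldZ n 0, fieldZ n 1), (fieldZ n 2, fieldZ n 3), (fieldZ n 4, fieldZ n 5),
    (fieldZ n 6, fieldZ n 7)⟩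

/-- Lookup in a search tree. -/
def BT.get : BT → ℕ → List ℕ
  | .leaf, _ => []
  | .node l k v r, x => if Nat.beq x k then v else if Nat.blt x k then l.get x else r.get x

/-- The key of a class and a norm. -/
def keyOf (p q : ℕ) (n : Zt) : ℕ :=
  p * 4194304 + q * 16384 + (n.1 + 32).toNat * 128 + (n.2 + 32).toNat

/-- The norms which occur. -/
def norms : List Zt :=
  [(0, 0), (4, 0), (4, 4), (8, -4), (8, 0), (8, 4), (12, -4), (12, 0), (16, 0)]

/-- The representatives. -/
def reps : List Qc := repCodes.map dec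

/-- The 315 vectors. -/
def vec (k : ℕ) : T3 :=
  (dec (vecCodes.getD k 0 % 2 ^ 40), dec (vecCodes.getD k 0 / 2 ^ 40 % 2 ^ 40),
    dec (vecCodes.getD k 0 / 2 ^ 80))

/-- An entry is a unit times a representative, or zero. -/
def entryOK (e : ℕ) (w : Qc) : Bool :=
  decide (dec (e / 8192) = w) &&
    (decide (w = qzero) || decide (qm (units.getD (e / 64 % 128) qone) (reps.getD (e % 64) qone) = w
      ∧ e % 64 < 51))

/-- An icosian is recorded. -/
def found (w : Qc) : Bool :=
  (pVals.contains (par qhb w) && qVals.contains (par qh w) && norms.contains (nsum w)) &&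
    (buckets.get (keyOf (par qhb w) (par qh w) (nsum w))).any fun e =>
      Nat.beq (e / 8192) (enc w) && entryOK e w

/-- Every small icosian is recorded. -/
def singleOK (a : Zt) : Bool :=
  box.all fun b =>
    !okrem (zs (zs (16, 0) (zm a a)) (zm b b)) ||
      (pp ((a.1 + a.2 + (b.1 - a.1 - a.2) + (b.2 + a.2)) % 2 == 1)
          ((b.1 - a.1 - a.2) % 2 == 1)).all fun c =>
        !okrem (zs (zs (zs (16, 0) (zm a a)) (zm b b)) (zm c c)) ||
          (pp ((a.1 + (b.2 + a.2)) % 2 == 1) ((b.1 - a.1 - a.2 + (b.2 + a.2)) % 2 == 1)).all fun d =>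
            !okrem (zs (zs (zs (zs (16, 0) (zm a a)) (zm b b)) (zm c c)) (zm d d)) ||
              found ⟨a, b, c, d⟩

theorem single_check : box.all singleOK = true := by decide +kernel

/-- The packed code of a vector. -/
def enc3 (t : T3) : ℕ := enc t.1 + 2 ^ 40 * enc t.2.1 + 2 ^ 80 * enc t.2.2

/-- A vector is on the list. -/
def inV (t : T3) : Bool :=
  decide ((dec (enc3 t % 2 ^ 40), dec (enc3 t / 2 ^ 40 % 2 ^ 40), dec (enc3 t / 2 ^ 80)) = t) &&
    vecCodes.contains (enc3 t)

/-- All minimal vectors with first two entries `x`, `y` are on the list. -/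
def pairOK (x y : Qc) : Bool :=
  !okrem (zs (zs (16, 0) (nsum x)) (nsum y)) ||
    (buckets.get (keyOf (par qhb x) (par qh (qneg (qadd x y)))
      (zs (zs (16, 0) (nsum x)) (nsum y)))).all fun e => inV (x, y, dec (e / 8192))

/-- First entry `x`. -/
def firstOK (x : Qc) : Bool :=
  norms.all fun n => !okrem (zs (zs (16, 0) (nsum x)) n) ||
    qVals.all fun q => (buckets.get (keyOf (par qhb x) q n)).all fun e => pairOK x (dec (e / 8192))

/-- First entry zero, second `y`. -/
def secondOK (y : Qc) : Bool := !Nat.beq (par qhb qzero) (par qhb y) || pairOK qzero y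

/-- First two entries zero, third `z`. -/
def thirdOK (z : Qc) : Bool :=
  !(decide (nsum z = (16, 0)) && Nat.beq (par qhb qzero) (par qhb z) &&
    Nat.beq (par qh z) (par qh qzero)) || inV (qzero, qzero, z)

theorem first_check : reps.all firstOK = true := by decide +kernel

theorem second_check : reps.all secondOK = true := by decide +kernel

theorem third_check : reps.all thirdOK = true := by decide +kernel

theorem reps_mem : reps.all mem = true := by decide +kernel

theorem units_unit : (units.all fun u => decide (qm (qconj u) u = qone ∧ qm u (qconj u) = qone)) =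
    true := by decide +kernel

end Cfsg.Agent.Lib.SporJ2
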