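import Cfsg.Agent.Lib.SporJ2.MinChecks

/-!
Every minimal vector of the icosian Leech lattice is a unit times one of 315 vectors.
-/

set_option autoImplicit false
set_option maxRecDepth 8000

namespace Cfsg.Agent.Lib.SporJ2

open Quaternion Cfsg.Spor

theorem mem_qzero : mem qzero = true := rfl

theorem unit_spec {u : Qc} (hu : u ∈ units) :
    mem u = true ∧ star (val u) * val u = 1 ∧ val u * star (val u) = 1 := by
  have hm := (units_mem hu).1
  have h := List.all_eq_true.1 units_unit u hu
  simp only [decide_eq_true_eq] at h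
  refine ⟨hm, ?_, ?_⟩
  · rw [← val_qconj, ← val_qm' (mem_qconj hm) hm, h.1, val_qone]
  · rw [← val_qconj, ← val_qm' hm (mem_qconj hm), h.2, val_qone]

theorem rt_16 : rt (16, 0) = 16 := by simp [rt]
theorem rs_16 : rs (16, 0) = 16 := by simp [rs]

theorem found_of_small {w : Qc} (hm : mem w = true) (h : okrem (zs (16, 0) (nsum w)) = true) :
    found w = true := by
  obtain ⟨a, b, c, d⟩ := w
  have g : 0 ≤ rt (zs (16, 0) (nsum ⟨a, b, c, d⟩)) ∧ 0 ≤ rs (zs (16, 0) (nsum ⟨a, b, c, d⟩)) := by
    simp only [okrem, decide_eq_true_eq] at h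
    generalize zs (16, 0) (nsum ⟨a, b, c, d⟩) = X at h ⊢
    have hs := Real.mul_self_sqrt (show (0 : ℝ) ≤ 5 by norm_num)
    have e1 : rt X + rs X = ((2 * X.1 + X.2 : ℤ) : ℝ) := by
      simp only [rt, rs, tau, sig]; push_cast; ring
    have e2 : rt X * rs X = ((X.1 * X.1 + X.1 * X.2 - X.2 * X.2 : ℤ) : ℝ) := by
      simp only [rt, rs, tau, sig]; push_cast; linear_combination -(X.2 * X.2 : ℝ) / 4 * hs
    have g1 : (0 : ℝ) ≤ rt X + rs X := by rw [e1]; exact_mod_cast h.1
    have g2 : (0 : ℝ) ≤ rt X * rs X := by rw [e2]; exact_mod_cast h.2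
    constructor <;> nlinarith
  simp only [nsum, rt_zs, rs_zs, rt_za, rs_za, rt_zm, rs_zm, rt_16, rs_16] at g
  have A1 := mul_self_nonneg (rt a); have A2 := mul_self_nonneg (rs a)
  have B1 := mul_self_nonneg (rt b); have B2 := mul_self_nonneg (rs b)
  have C1 := mul_self_nonneg (rt c); have C2 := mul_self_nonneg (rs c)
  have D1 := mul_self_nonneg (rt d); have D2 := mul_self_nonneg (rs d)
  have ha := mem_pp (a := a) (X := (16, 0)) (okrem_of
    (by rw [rt_zs, rt_zm, rt_16]; linarith) (by rw [rs_zs, rs_zm, rs_16]; linarith))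
    rt_16.le rs_16.le
  have hb := mem_pp (a := b) (X := zs (16, 0) (zm a a)) (okrem_of
    (by rw [rt_zs, rt_zs, rt_zm, rt_zm, rt_16]; linarith)
    (by rw [rs_zs, rs_zs, rs_zm, rs_zm, rs_16]; linarith))
    (by rw [rt_zs, rt_zm, rt_16]; linarith) (by rw [rs_zs, rs_zm, rs_16]; linarith)
  have r2 : okrem (zs (zs (16, 0) (zm a a)) (zm b b)) = true := okrem_of
    (by simp only [rt_zs, rt_zm, rt_16]; linarith) (by simp only [rs_zs, rs_zm, rs_16]; linarith)
  have r3 : okrem (zs (zs (zs (16, 0) (zm a a)) (zm b b)) (zm c c)) = true := okrem_of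
    (by simp only [rt_zs, rt_zm, rt_16]; linarith) (by simp only [rs_zs, rs_zm, rs_16]; linarith)
  have r4 : okrem (zs (zs (zs (zs (16, 0) (zm a a)) (zm b b)) (zm c c)) (zm d d)) = true := okrem_of
    (by simp only [rt_zs, rt_zm, rt_16]; linarith) (by simp only [rs_zs, rs_zm, rs_16]; linarith)
  have hc := (mem_pp (a := c) r3 (by simp only [rt_zs, rt_zm, rt_16]; linarith)
    (by simp only [rs_zs, rs_zm, rs_16]; linarith)).1
  have hd := (mem_pp (a := d) r4 (by simp only [rt_zs, rt_zm, rt_16]; linarith)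
    (by simp only [rs_zs, rs_zm, rs_16]; linarith)).1
  simp only [mem, co3, co4, Bool.and_eq_true, beq_iff_eq] at hm
  have hpc : (a.1 + a.2 + (b.1 - a.1 - a.2) + (b.2 + a.2)) % 2 = c.1 % 2 := by omega
  have hqc : (b.1 - a.1 - a.2) % 2 = c.2 % 2 := by omega
  have hpd : (a.1 + (b.2 + a.2)) % 2 = d.1 % 2 := by omega
  have hqd : (b.1 - a.1 - a.2 + (b.2 + a.2)) % 2 = d.2 % 2 := by omega
  have h1 := List.all_eq_true.1 single_check a ha.2
  simp only [singleOK, List.all_eq_true, Bool.or_eq_true, Bool.not_eq_true'] at h1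
  have h2 := (h1 b hb.2).resolve_left (by simp [r2])
  rw [hpc, hqc, hpd, hqd] at h2
  exact ((h2 c hc).resolve_left (by simp [r3]) d hd).resolve_left (by simp [r4])

theorem found_spec {w : Qc} (h : found w = true) :
    (par qhb w ∈ pVals ∧ par qh w ∈ qVals ∧ nsum w ∈ norms) ∧
      ∃ e ∈ buckets.get (keyOf (par qhb w) (par qh w) (nsum w)), dec (e / 8192) = w ∧
        (w = qzero ∨ ∃ u ∈ units, ∃ r ∈ reps, qm u r = w) := by
  simp only [found, Bool.and_eq_true, List.contains_iff_mem, List.any_eq_true, entryOK,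
    decide_eq_true_eq, Bool.or_eq_true] at h
  obtain ⟨⟨⟨hp, hq⟩, hn⟩, e, he, -, hd, hw⟩ := h
  refine ⟨⟨hp, hq, hn⟩, e, he, hd, hw.imp id fun ⟨hw, hk⟩ => ?_⟩
  have hlen : e % 64 < reps.length := by
    rw [show reps.length = 51 by decide +kernel]; exact hk
  rw [List.getD_eq_getElem _ _ hlen] at hw
  refine ⟨_, ?_, _, List.getElem_mem hlen, hw⟩
  rw [List.getD_eq_getElem?_getD]
  cases hu : units[e / 64 % 128]? with
  | none => exact (show qone ∈ units by decide +kernel)
  | some u => exact List.mem_of_getElem? hu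

theorem inV_spec {t : T3} (h : inV t = true) : ∃ k < 315, vec k = t := by
  simp only [inV, Bool.and_eq_true, decide_eq_true_eq, List.contains_iff_mem] at h
  obtain ⟨k, hk, he⟩ := List.getElem_of_mem h.2
  refine ⟨k, lt_of_lt_of_eq hk (by decide +kernel), ?_⟩
  rw [vec, List.getD_eq_getElem _ _ hk, he]
  exact h.1

/-- The conditions on a minimal vector with entries `x`, `y`, `z`. -/
theorem pair_complete {x y z : Qc} (hx : mem x = true) (hy : mem y = true) (hz : mem z = true)
    (h1 : inIdeal qhb (qsub x y) = true) (h2 : inIdeal qhb (qsub y z) = true)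
    (h3 : inIdeal qh (qadd (qadd x y) z) = true) (hn : za (za (nsum x) (nsum y)) (nsum z) = (16, 0))
    (hxy : pairOK x y = true) : ∃ k < 315, vec k = (x, y, z) := by
  have hn1 := congrArg rt hn
  have hn2 := congrArg rs hn
  simp only [rt_za, rs_za, rt_16, rs_16] at hn1 hn2
  have p1 := rt_nsum_nonneg x; have p2 := rt_nsum_nonneg y; have p3 := rt_nsum_nonneg z
  have q1 := rs_nsum_nonneg x; have q2 := rs_nsum_nonneg y; have q3 := rs_nsum_nonneg z
  have hz' := found_of_small hz (okrem_of (by rw [rt_zs, rt_16]; linarith)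
    (by rw [rs_zs, rs_16]; linarith))
  obtain ⟨-, e, he, hde, -⟩ := found_spec hz'
  have hP : par qhb z = par qhb x :=
    ((par_eq_of_inIdeal rfl hx hy h1).trans (par_eq_of_inIdeal rfl hy hz h2)).symm
  have hQ : par qh z = par qh (qneg (qadd x y)) := by
    refine par_eq_of_inIdeal rfl hz (mem_qneg (mem_qadd hx hy)) ?_
    convert h3 using 2
    apply val_injective
    rw [val_qsub, val_qneg, val_qadd, val_qadd, val_qadd]
    abel
  have hN : nsum z = zs (zs (16, 0) (nsum x)) (nsum y) := by
    have a1 := congrArg Prod.fst hn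
    have a2 := congrArg Prod.snd hn
    simp only [za] at a1 a2
    exact Prod.ext (by simp only [zs]; omega) (by simp only [zs]; omega)
  rw [hP, hQ, hN] at he
  simp only [pairOK, Bool.or_eq_true, Bool.not_eq_true', List.all_eq_true] at hxy
  have hr : okrem (zs (zs (16, 0) (nsum x)) (nsum y)) = true := by
    rw [← hN]; exact okrem_of p3 q3
  have := inV_spec (hxy.resolve_left (by simp [hr]) e he)
  rwa [hde] at this

theorem star_mul_val (w : Qc) : qip ![val w, 0, 0] ![val w, 0, 0] = ((rt (nsum w) / 4 : ℝ) : ℍ[ℝ]) := by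
  simp [qip, Fin.sum_univ_three, Quaternion.self_mul_star, normSq_val]

theorem qip_self_valT (t : T3) :
    qip (valT t) (valT t) = ((rt (za (za (nsum t.1) (nsum t.2.1)) (nsum t.2.2)) / 4 : ℝ) : ℍ[ℝ]) := by
  simp [qip, valT, Fin.sum_univ_three, Quaternion.self_mul_star, normSq_val, rt_za, add_div]

theorem qip_self_four {t : T3} :
    qip (valT t) (valT t) = 4 ↔ za (za (nsum t.1) (nsum t.2.1)) (nsum t.2.2) = (16, 0) := by
  rw [qip_self_valT, show (4 : ℍ[ℝ]) = ((4 : ℝ) : ℍ[ℝ]) from rfl]
  constructor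
  · intro h
    apply rt_injective
    rw [rt_16]
    have := congrArg (fun q : ℍ[ℝ] => q.re) h
    simp only [Quaternion.re_coe] at this
    linarith
  · intro h
    rw [h, rt_16]; norm_num

/-- Scaling a minimal vector by a unit. -/
theorem scale {u : Qc} (hu : u ∈ units) {v : H3} (hv : v ∈ icoLeech) (hq : qip v v = 4) :
    lmul (star (val u)) v ∈ icoLeech ∧
      qip (lmul (star (val u)) v) (lmul (star (val u)) v) = 4 := by
  obtain ⟨hm, h1, -⟩ := unit_spec hu
  refine ⟨lmul_mem_icoLeech ?_ hv, ?_⟩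
  · rw [← val_qconj]; exact val_mem_icosians (mem_qconj hm)
  · rw [qip_lmul_left, qip_lmul_right, hq, star_star, ← mul_assoc,
      ← (Commute.ofNat_left 4 (star (val u))).eq, mul_assoc, h1, mul_one]

/-- Every minimal vector is a unit times one of the 315 vectors. -/
theorem minimal_complete {v : H3} (hv : v ∈ icoLeech) (hq : qip v v = 4) :
    ∃ u ∈ units, ∃ k < 315, v = lmul (val u) (valT (vec k)) := by
  have back : ∀ u ∈ units, (∃ k < 315, valT (vec k) = lmul (star (val u)) v) →
      ∃ u ∈ units, ∃ k < 315, v = lmul (val u) (valT (vec k)) := fun u hu ⟨k, hk, he⟩ =>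
    ⟨u, hu, k, hk, by rw [he, lmul_lmul, (unit_spec hu).2.2, lmul_one]⟩
  obtain ⟨⟨a, b, c⟩, ht, rfl⟩ := mem_icoLeech_iff.1 hv
  have hn := qip_self_four.1 hq
  dsimp only at hn
  have ht' := ht
  simp only [okT, memT, Bool.and_eq_true] at ht'
  obtain ⟨⟨⟨⟨⟨ha, hb⟩, hc⟩, h1⟩, h2⟩, h3⟩ := ht'
  have hn1 := congrArg rt hn
  have hn2 := congrArg rs hn
  simp only [rt_za, rs_za, rt_16, rs_16] at hn1 hn2
  have small : ∀ w, (w = a ∨ w = b ∨ w = c) → mem w = true → found w = true := by
    intro w hw hwm
    have p1 := rt_nsum_nonneg a; have p2 := rt_nsum_nonneg b; have p3 := rt_nsum_nonneg c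
    have q1 := rs_nsum_nonneg a; have q2 := rs_nsum_nonneg b; have q3 := rs_nsum_nonneg c
    rcases hw with rfl | rfl | rfl <;>
      exact found_of_small hwm (okrem_of (by rw [rt_zs, rt_16]; linarith)
        (by rw [rs_zs, rs_16]; linarith))
  -- the normalised vector with a representative as first nonzero entry
  have norm : ∀ u ∈ units, ∀ (x y z : Qc), mem x = true → mem y = true → mem z = true →
      valT (a, b, c) = lmul (val u) (valT (x, y, z)) → pairOK x y = true →
      ∃ u ∈ units, ∃ k < 315, valT (a, b, c) = lmul (val u) (valT (vec k)) := by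
    intro u hu x y z hx hy hz he hp
    obtain ⟨hm, hu1, hu2⟩ := unit_spec hu
    have he' : lmul (star (val u)) (valT (a, b, c)) = valT (x, y, z) := by
      rw [he, lmul_lmul, hu1, lmul_one]
    obtain ⟨hL, hQ⟩ := scale hu hv hq
    rw [he'] at hL hQ
    obtain ⟨t, htok, hte⟩ := mem_icoLeech_iff.1 hL
    obtain rfl := valT_injective hte
    simp only [okT, Bool.and_eq_true] at htok
    obtain ⟨k, hk, hkv⟩ := pair_complete hx hy hz htok.1.1.2 htok.1.2 htok.2 (qip_self_four.1 hQ) hp
    exact ⟨u, hu, k, hk, by rw [hkv]; exact he⟩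
  have scaleback : ∀ u ∈ units, ∀ w, mem w = true → ∃ w', mem w' = true ∧ val w = val u * val w' := by
    intro u hu w hw
    obtain ⟨hm, -, hu2⟩ := unit_spec hu
    exact ⟨qm (qconj u) w, mem_qm (mem_qconj hm) hw, by
      rw [val_qm' (mem_qconj hm) hw, val_qconj, ← mul_assoc, hu2, one_mul]⟩
  by_cases hza : a = qzero
  · subst hza
    by_cases hzb : b = qzero
    · subst hzb
      rcases (found_spec (small c (by tauto) hc)).2 with ⟨-, -, -, rfl | ⟨u, hu, r, hr, rfl⟩⟩
      · exact absurd hn (by decide)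
      · have hrm := List.all_eq_true.1 reps_mem r hr
        obtain ⟨hm, hu1, hu2⟩ := unit_spec hu
        have he : valT (qzero, qzero, qm u r) = lmul (val u) (valT (qzero, qzero, r)) := by
          funext i
          fin_cases i <;> simp [valT, lmul, val_qzero, val_qm' hm hrm]
        obtain ⟨hL, hQ⟩ := scale hu hv hq
        rw [he, lmul_lmul, hu1, lmul_one] at hL hQ
        obtain ⟨t, htok, hte⟩ := mem_icoLeech_iff.1 hL
        obtain rfl := valT_injective hte
        simp only [okT, Bool.and_eq_true] at htok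
        have hn' := qip_self_four.1 hQ
        have hr16 : nsum r = (16, 0) := by simpa [nsum, qzero, za, zm] using hn'
        have hP := par_eq_of_inIdeal (gb := qhb) rfl mem_qzero hrm htok.1.2
        have hQ' : par qh r = par qh qzero := by
          refine par_eq_of_inIdeal rfl hrm mem_qzero ?_
          convert htok.2 using 2
          apply val_injective
          simp [val_qsub, val_qadd, val_qzero]
        have h := List.all_eq_true.1 third_check r hr
        simp only [thirdOK, hr16, hP, hQ', decide_true, Nat.beq_refl, Bool.and_self, Bool.not_true,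
          Bool.false_or] at h
        obtain ⟨k, hk, hkv⟩ := inV_spec h
        exact ⟨u, hu, k, hk, by rw [hkv, he]⟩
    · obtain ⟨-, -, -, hb' | ⟨u, hu, r, hr, rfl⟩⟩ := (found_spec (small b (by tauto) hb)).2
      · exact absurd hb' hzb
      have hrm := List.all_eq_true.1 reps_mem r hr
      obtain ⟨hm, hu1, -⟩ := unit_spec hu
      obtain ⟨z, hz, hzv⟩ := scaleback u hu c hc
      refine norm u hu qzero r z mem_qzero hrm hz ?_ ?_
      · funext i
        fin_cases i <;> simp [valT, lmul, val_qzero, val_qm' hm hrm, hzv]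
      · have h := List.all_eq_true.1 second_check r hr
        obtain ⟨hL, -⟩ := scale hu hv hq
        have he : lmul (star (val u)) (valT (qzero, qm u r, c)) = valT (qzero, r, z) := by
          funext i
          fin_cases i <;>
            simp [valT, lmul, val_qzero, val_qm' hm hrm, hzv, ← mul_assoc, hu1]
        rw [he] at hL
        obtain ⟨t, htok, hte⟩ := mem_icoLeech_iff.1 hL
        obtain rfl := valT_injective hte
        simp only [okT, Bool.and_eq_true] at htok
        have hP := par_eq_of_inIdeal (gb := qhb) rfl mem_qzero hrm htok.1.1.2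
        simpa only [secondOK, hP, Nat.beq_refl, Bool.not_true, Bool.false_or] using h
  · obtain ⟨-, -, -, ha' | ⟨u, hu, r, hr, rfl⟩⟩ := (found_spec (small a (by tauto) ha)).2
    · exact absurd ha' hza
    have hrm := List.all_eq_true.1 reps_mem r hr
    obtain ⟨hm, hu1, -⟩ := unit_spec hu
    obtain ⟨y, hy, hyv⟩ := scaleback u hu b hb
    obtain ⟨z, hz, hzv⟩ := scaleback u hu c hc
    have he : valT (qm u r, b, c) = lmul (val u) (valT (r, y, z)) := by
      funext i
      fin_cases i <;> simp [valT, lmul, val_qm' hm hrm, hyv, hzv]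
    refine norm u hu r y z hrm hy hz he ?_
    obtain ⟨hL, hQ⟩ := scale hu hv hq
    rw [he, lmul_lmul, hu1, lmul_one] at hL hQ
    obtain ⟨t, htok, hte⟩ := mem_icoLeech_iff.1 hL
    obtain rfl := valT_injective hte
    simp only [okT, Bool.and_eq_true] at htok
    have hn' := qip_self_four.1 hQ
    have g1 := congrArg rt hn'
    have g2 := congrArg rs hn'
    simp only [rt_za, rs_za, rt_16, rs_16] at g1 g2
    have p1 := rt_nsum_nonneg r; have p2 := rt_nsum_nonneg y; have p3 := rt_nsum_nonneg z
    have q1 := rs_nsum_nonneg r; have q2 := rs_nsum_nonneg y; have q3 := rs_nsum_nonneg z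
    obtain ⟨⟨-, hyq, hyn⟩, e, hemem, hde, -⟩ := found_spec (found_of_small hy
      (okrem_of (by rw [rt_zs, rt_16]; linarith) (by rw [rs_zs, rs_16]; linarith)))
    rw [← par_eq_of_inIdeal (gb := qhb) rfl hrm hy htok.1.1.2] at hemem
    have h := List.all_eq_true.1 first_check r hr
    simp only [firstOK, List.all_eq_true, Bool.or_eq_true, Bool.not_eq_true'] at h
    have := (h _ hyn).resolve_left (by
      have : okrem (zs (zs (16, 0) (nsum r)) (nsum y)) = true := okrem_of
        (by simp only [rt_zs, rt_16]; linarith) (by simp only [rs_zs, rs_16]; linarith)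
      simp [this]) _ hyq e hemem
    rwa [hde] at this

end Cfsg.Agent.Lib.SporJ2
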