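import Cfsg.Agent.Lib.SporJ2.Simple
import Cfsg.Agent.Lib.LinearOrders.PSUThree

/-!
The element orders of `J₂`: every element of the group on 100 points is conjugate into an explicit list.
-/

set_option autoImplicit false
set_option maxRecDepth 8000

namespace Cfsg.Agent.Lib.SporJ2

open Cfsg.Agent.Lib.Computation

/-- A power dividing one of 7, 8, 10, 12, 15 is the identity. -/
def okOrd (c : ℕ) : Bool :=
  forceNat c fun c =>
  forceNat (mulP 100 7 c c) fun c2 =>
  forceNat (mulP 100 7 c2 c2) fun c4 =>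
  forceNat (mulP 100 7 c4 c4) fun c8 =>
  forceNat (mulP 100 7 c2 c) fun c3 =>
  forceNat (mulP 100 7 c4 c3) fun c7 =>
  forceNat (mulP 100 7 c8 c2) fun c10 =>
  forceNat (mulP 100 7 c8 c4) fun c12 =>
  forceNat (mulP 100 7 c12 c3) fun c15 =>
  forceNat (packW 7 (fun x => x) 100) fun e =>
    Nat.beq c8 e || Nat.beq c7 e || Nat.beq c10 e || Nat.beq c12 e || Nat.beq c15 e

/-- The possible orders. -/
def orders : List ℕ := [1, 2, 3, 4, 5, 6, 7, 8, 10, 12, 15]

theorem mem_orders : ∀ k ∈ [7, 8, 10, 12, 15], ∀ d ≤ k, d ∣ k → d ∈ orders := by decide +kernel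

theorem orderOf_mem_orders {g : Equiv.Perm (Fin 100)} {k : ℕ} (hk : k ∈ [7, 8, 10, 12, 15])
    (h : g ^ k = 1) : orderOf g ∈ orders :=
  mem_orders k hk _ (Nat.le_of_dvd (by simp at hk; omega) (orderOf_dvd_of_pow_eq_one h))
    (orderOf_dvd_of_pow_eq_one h)

theorem mulP_spec {a b : ℕ} {g h : Equiv.Perm (Fin 100)} (ha : okPerm 100 7 a = true ∧ decodeP 100 7 a = g)
    (hb : okPerm 100 7 b = true ∧ decodeP 100 7 b = h) :
    okPerm 100 7 (mulP 100 7 a b) = true ∧ decodeP 100 7 (mulP 100 7 a b) = g * h :=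
  ⟨okPerm_mulP ha.1 hb.1, by rw [decodeP_mulP ha.1 hb.1, ha.2, hb.2]⟩

theorem okOrd_spec {c : ℕ} (hc : okPerm 100 7 c = true) (h : okOrd c = true) :
    orderOf (decodeP 100 7 c) ∈ orders := by
  simp only [okOrd, forceNat_eq, Bool.or_eq_true] at h
  set g := decodeP 100 7 c
  have s1 : okPerm 100 7 c = true ∧ decodeP 100 7 c = g ^ 1 := ⟨hc, (pow_one g).symm⟩
  have step : ∀ {a b m n : ℕ}, okPerm 100 7 a = true ∧ decodeP 100 7 a = g ^ m →
      okPerm 100 7 b = true ∧ decodeP 100 7 b = g ^ n →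
      okPerm 100 7 (mulP 100 7 a b) = true ∧ decodeP 100 7 (mulP 100 7 a b) = g ^ (m + n) :=
    fun ha hb => ⟨(mulP_spec ha hb).1, by rw [(mulP_spec ha hb).2, pow_add]⟩
  have s2 := step s1 s1
  have s4 := step s2 s2
  have s8 := step s4 s4
  have s3 := step s2 s1
  have s7 := step s4 s3
  have s10 := step s8 s2
  have s12 := step s8 s4
  have s15 := step s12 s3
  have fin : ∀ {a n : ℕ}, n ∈ [7, 8, 10, 12, 15] → okPerm 100 7 a = true ∧ decodeP 100 7 a = g ^ n →
      Nat.beq a (packW 7 (fun x => x) 100) = true → orderOf g ∈ orders := fun hn ha he =>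
    orderOf_mem_orders hn (by
      rw [← ha.2, Nat.eq_of_beq_eq_true he]
      exact R100.val_one)
  rcases h with (((h | h) | h) | h) | h
  exacts [fin (by decide) s8 h, fin (by decide) s7 h, fin (by decide) s10 h, fin (by decide) s12 h,
    fin (by decide) s15 h]

/-- All elements described by a chain. -/
def elemsOf : List (Level ℕ) → List ℕ
  | [] => [packW 7 (fun x => x) 100]
  | L :: rest => L.orb.toList.flatMap fun e => (elemsOf rest).map (mulP 100 7 e.fwd)

theorem exists_elem : ∀ {c : List (Level R100.C)}, R100.checkChain c = true → ∀ {g}, g ∈ R100.grp c →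
    ∃ d ∈ elemsOf c, okPerm 100 7 d = true ∧ decodeP 100 7 d = g := by
  intro c
  induction c with
  | nil =>
    intro _ g hg
    rw [R100.grp_nil, Subgroup.mem_bot] at hg
    exact ⟨_, List.mem_singleton.2 rfl, R100.ok_one, hg ▸ R100.val_one⟩
  | cons L rest ih =>
    intro hc g hg
    obtain ⟨e, he, k, hk, rfl⟩ := R100.decomp hc hg
    obtain ⟨d, hd, hd'⟩ := ih (R100.checkChain_tail hc) hk
    exact ⟨_, List.mem_flatMap.2 ⟨e, he, List.mem_map.2 ⟨d, hd, rfl⟩⟩,
      mulP_spec ⟨(R100.levelFacts hc).fwd_ok e he, rfl⟩ hd'⟩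

theorem elemsOf_ok : ∀ {c : List (Level R100.C)}, R100.checkChain c = true → ∀ d ∈ elemsOf c,
    okPerm 100 7 d = true ∧ decodeP 100 7 d ∈ R100.grp c := by
  intro c
  induction c with
  | nil =>
    intro _ d hd
    rw [List.mem_singleton.1 hd]
    exact ⟨R100.ok_one, by rw [show decodeP 100 7 _ = 1 from R100.val_one]; exact one_mem _⟩
  | cons L rest ih =>
    intro hc d hd
    obtain ⟨e, he, hd⟩ := List.mem_flatMap.1 hd
    obtain ⟨k, hk, rfl⟩ := List.mem_map.1 hd
    obtain ⟨h1, h2⟩ := ih (R100.checkChain_tail hc) k hk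
    obtain ⟨g1, g2⟩ := mulP_spec ⟨(R100.levelFacts hc).fwd_ok e he, rfl⟩ ⟨h1, rfl⟩
    exact ⟨g1, g2 ▸ mul_mem (R100.fwd_mem_grp hc he) (R100.grp_tail_le hc h2)⟩

/-- The transversal element taking `0` to `a`. -/
def transTo (c : List (Level ℕ)) (a : ℕ) : ℕ :=
  match (c.getD 0 ⟨0, [], .leaf⟩).orb.find a with
  | some e => e.fwd
  | none => 0

/-- The certificate for the elements taking `0` to the second base point. -/
def caseOK (c : List (Level ℕ)) (reps : List ℕ) : Bool :=
  forceNat (transTo c (c.getD 1 ⟨0, [], .leaf⟩).base) fun t =>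
    okPerm 100 7 t && Nat.beq (getW 7 t 0) (c.getD 1 ⟨0, [], .leaf⟩).base &&
    (c.getD 1 ⟨0, [], .leaf⟩).orb.toList.all fun s =>
      forceNat (getW 7 t s.point) fun y =>
        (elemsOf (c.drop 2)).any (fun d => reps.contains (getW 7 d y)) &&
          (!reps.contains y ||
            (elemsOf (c.drop 2)).all fun d => okOrd (mulP 100 7 t (mulP 100 7 s.fwd d)))

theorem case_A : caseOK sa_chain sa_reps = true := by decide +kernel
theorem case_B : caseOK sb_chain sb_reps = true := by decide +kernel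

theorem transTo_mem {L0 : Level R100.C} {rest : List (Level R100.C)}
    (hc : R100.checkChain (L0 :: rest) = true) {a : ℕ} (hok : okPerm 100 7 (transTo (L0 :: rest) a) = true) :
    decodeP 100 7 (transTo (L0 :: rest) a) ∈ R100.grp (L0 :: rest) := by
  unfold transTo at hok ⊢
  simp only [List.getD_cons_zero] at hok ⊢
  cases hf : L0.orb.find a with
  | none => simp only [hf] at hok; exact absurd hok (by decide +kernel)
  | some e => exact R100.fwd_mem_grp hc (Orbit.find_some hf).1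

/-- Orders of the elements taking `0` to the second base point. -/
theorem case_sound {c : List (Level R100.C)} (hc : R100.checkChain c = true) (hg : R100.grp c = K100)
    (hb : c.head?.map (fun L => L.base) = some 0) (hl : 2 ≤ c.length) {reps : List ℕ}
    (hok : caseOK c reps = true) {g : Equiv.Perm (Fin 100)} (hgK : g ∈ K100)
    (hg0 : g 0 = Fin.ofNat 100 (c.getD 1 ⟨0, [], .leaf⟩).base) : orderOf g ∈ orders := by
  match c, hl with
  | L0 :: L :: rest, _ =>
  simp only [List.head?_cons, Option.map_some, Option.some.injEq] at hb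
  simp only [List.getD_cons_succ, List.getD_cons_zero] at hg0
  simp only [caseOK, forceNat_eq, List.getD_cons_succ, List.getD_cons_zero, Bool.and_eq_true,
    Bool.or_eq_true, List.all_eq_true, List.any_eq_true, List.drop_succ_cons, List.drop_zero,
    List.contains_iff_mem, Bool.not_eq_true'] at hok
  obtain ⟨⟨htok, ht0⟩, hall⟩ := hok
  have hc1 := R100.checkChain_tail hc
  have hc2 := R100.checkChain_tail hc1
  set tc := transTo (L0 :: L :: rest) L.base with htc
  set t := decodeP 100 7 tc with ht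
  have htg : t ∈ K100 := hg ▸ transTo_mem hc htok
  have hlt : L.base < 100 := by
    have := (R100.levelFacts hc1).ptOk_base
    simp only [permRep, Nat.blt, Nat.ble_eq] at this
    exact this
  have hta : t 0 = Fin.ofNat 100 L.base := Fin.ext (by
    rw [ht, decodeP_apply htok]
    simpa [Nat.mod_eq_of_lt hlt] using Nat.eq_of_beq_eq_true ht0)
  have hfix : ∀ d ∈ R100.grp rest, d 0 = 0 ∧ d (Fin.ofNat 100 L.base) = Fin.ofNat 100 L.base ∧ d ∈ K100 := by
    intro d hd
    have h1 := R100.fix_base hc (R100.grp_tail_le hc1 hd)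
    rw [hb] at h1
    exact ⟨h1, R100.fix_base hc1 hd, hg ▸ R100.grp_tail_le hc (R100.grp_tail_le hc1 hd)⟩
  -- every such element factors through the chain
  have fac : ∀ g ∈ K100, g 0 = Fin.ofNat 100 L.base →
      ∃ s ∈ L.orb.toList, ∃ d ∈ elemsOf rest, okPerm 100 7 (mulP 100 7 tc (mulP 100 7 s.fwd d)) = true ∧
        decodeP 100 7 (mulP 100 7 tc (mulP 100 7 s.fwd d)) = g ∧
        (g (Fin.ofNat 100 L.base) : ℕ) = getW 7 tc s.point := by
    intro g hgK hg0
    have hk : t⁻¹ * g ∈ R100.grp (L :: rest) := by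
      rw [R100.mem_grp_tail_iff hc, hg, hb]
      refine ⟨mul_mem (inv_mem htg) hgK, ?_⟩
      show t⁻¹ (g 0) = 0
      rw [hg0, ← hta]
      simp
    obtain ⟨s, hs, k, hk', he⟩ := R100.decomp hc1 hk
    obtain ⟨d, hd, hd'⟩ := exists_elem hc2 hk'
    obtain ⟨m1, m2⟩ := mulP_spec ⟨htok, rfl⟩ (mulP_spec ⟨(R100.levelFacts hc1).fwd_ok s hs, rfl⟩ hd')
    have hgeq : g = t * (decodeP 100 7 s.fwd * k) := by
      rw [show decodeP 100 7 s.fwd * k = t⁻¹ * g from he.symm, mul_inv_cancel_left]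
    refine ⟨s, hs, d, hd, m1, m2.trans hgeq.symm, ?_⟩
    have hp : decodeP 100 7 s.fwd (Fin.ofNat 100 L.base) = Fin.ofNat 100 s.point :=
      R100.fwd_smul_base hc1 hs
    have hsp := (R100.levelFacts hc1).ptOk_point s hs
    simp only [permRep, Nat.blt, Nat.ble_eq] at hsp
    rw [hgeq, Equiv.Perm.mul_apply, Equiv.Perm.mul_apply, (hfix k hk').2.1, hp, ht,
      decodeP_apply htok]
    simp [Nat.mod_eq_of_lt (Nat.lt_of_succ_le hsp)]
  obtain ⟨s, hs, -, -, -, -, hy⟩ := fac g hgK hg0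
  obtain ⟨⟨d, hd, hdr⟩, -⟩ := hall s hs
  obtain ⟨hdok, hdm⟩ := elemsOf_ok hc2 d hd
  obtain ⟨h0, ha, hdK⟩ := hfix _ hdm
  set D := decodeP 100 7 d with hD
  set g' := D * g * D⁻¹ with hg'
  have hD0 : D⁻¹ 0 = 0 := by conv_lhs => rw [← h0]; simp
  have hDa : D⁻¹ (Fin.ofNat 100 L.base) = Fin.ofNat 100 L.base := by
    conv_lhs => rw [← ha]
    simp
  have hg'0 : g' 0 = Fin.ofNat 100 L.base := by
    rw [hg', Equiv.Perm.mul_apply, Equiv.Perm.mul_apply, hD0, hg0, ha]
  obtain ⟨s', hs', d', hd', hok', hval, hy'⟩ := fac g' (mul_mem (mul_mem hdK hgK) (inv_mem hdK)) hg'0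
  have hrep : getW 7 tc s'.point ∈ reps := by
    rw [← hy', hg', Equiv.Perm.mul_apply, Equiv.Perm.mul_apply, hDa, hD, decodeP_apply hdok, hy]
    exact hdr
  have h := ((hall s' hs').2.resolve_left (by simpa using hrep)) d' hd'
  have := okOrd_spec hok' h
  rw [hval, hg', show D * g * D⁻¹ = MulAut.conj D g from rfl] at this
  rwa [MulEquiv.orderOf_eq] at this

theorem orders_H100 {g : Equiv.Perm (Fin 100)} (hg : g ∈ H100) : orderOf g ∈ orders := by
  obtain ⟨e⟩ := exists_equiv_PSU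
  haveI : Fact (Nat.Prime 3) := ⟨Nat.prime_three⟩
  haveI : CharP U33.K9 3 :=
    charP_of_card_eq_prime_pow (p := 3) (f := 2) (by rw [U33.card_k9])
  have h := LinearOrders.omega_psu3 (F := U33.K9) (q := 3) U33.card_k9 3 (by norm_num)
  have hm : orderOf g ∈ Set.range (orderOf : Cfsg.PSU 3 U33.K9 3 → ℕ) :=
    ⟨e ⟨g, hg⟩, by rw [MulEquiv.orderOf_eq, Subgroup.orderOf_mk]⟩
  change orderOf g ∈ OrderSets.omega (Cfsg.PSU 3 U33.K9 3) at hm
  rw [h] at hm
  norm_num at hm
  have key : ∀ k ∈ [4, 7, 8, 12], ∀ d ≤ k, d ∣ k → d ∈ orders := by decide +kernel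
  rcases hm with ((hm | hm) | hm) | hm
  all_goals exact key _ (by decide) _ (Nat.le_of_dvd (by norm_num) hm) hm

theorem orders_K100 {g : Equiv.Perm (Fin 100)} (hg : g ∈ K100) : orderOf g ∈ orders := by
  rcases cover (g 0) with h | ⟨h, hh, he⟩ | ⟨h, hh, he⟩
  · exact orders_H100 ((mem_H100 g).2 ⟨hg, h⟩)
  all_goals
    have h0 : h 0 = 0 := ((mem_H100 h).1 hh).2
    have hK := H100_le hh
    rw [← MulEquiv.orderOf_eq (MulAut.conj h⁻¹) g]
  · refine case_sound chain_ok.1 grp_sa head_zero.1 (by decide +kernel) case_A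
      (mul_mem (mul_mem (inv_mem hK) hg) (inv_mem (inv_mem hK))) ?_
    show (h⁻¹ * g * h⁻¹⁻¹ : Equiv.Perm (Fin 100)) 0 = _
    rw [inv_inv, Equiv.Perm.mul_apply, Equiv.Perm.mul_apply, h0, ← he]
    simp
    decide +kernel
  · refine case_sound chain_ok.2 grp_sb head_zero.2 (by decide +kernel) case_B
      (mul_mem (mul_mem (inv_mem hK) hg) (inv_mem (inv_mem hK))) ?_
    show (h⁻¹ * g * h⁻¹⁻¹ : Equiv.Perm (Fin 100)) 0 = _
    rw [inv_inv, Equiv.Perm.mul_apply, Equiv.Perm.mul_apply, h0, ← he]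
    simp
    decide +kernel

/-- Elements of the orders 7, 8, 10, 12, 15. -/
def witnesses : List (ℕ × ℕ) := [
  (7, 0x94616bd6d4addea25d51dc781f325236758b9508c66ab8981a18541ebb06fc40f2014559569b8608ec8c7f0f10f5e11d9578863c068267d744405371cadc8b2471280672e624341a4c24f68ca09a59d033f58414626d305),
  (8, 0xbd628be9d6dfe3c35285994f7012a6c2fe22f719aa72b14428cb4a9e6525b47801e61c74f1c299e7518ca50cc2f6e2c213b5110c8687c681ad1510f4cd55bbba40cb19a0a5c14a512571354d0e22017054e2819b2c19008),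
  (10, 0xa4628979d29f545af551dc18edd352c1b587f7879576b898150d284fbb0064815115c5582d9121a40e5fb803111672dac69889241c238f57428c3b7120ad5571652c35e11e47347eb4210e4c949ac5d1b0d253a02c0c2a6),
  (12, 0x8e04384996ae22722a48b792a0d67cfdeba2f80f2c4066246aa90140bc0dd8654d8fab46164624262a526aa6c3070758c24ed2cd1962319a1cb8e4f2c308ceaf6d9d3243c0134b853106f14acd1b757c3377e8286451689),
  (15, 0x95795633b63018a2f96b67b6cb9e5376752c5521a804f09c068563321b048220f1dac5175494f60706597e46e330011ce15c92401a025c49897e1374b69daca68c72f1eea6213e1ab8a06aca20625a5a735593199a1441b)]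

theorem witness_check : (witnesses.all fun w => okPerm 100 7 w.2 && R100.sift sa_chain w.2 &&
    decide ((List.range w.1).all fun i =>
      Nat.beq (Nat.rec (packW 7 (fun x => x) 100) (fun _ a => mulP 100 7 w.2 a) (i + 1))
        (packW 7 (fun x => x) 100) == Nat.beq (i + 1) w.1)) = true ∧
    witnesses.map Prod.fst = [7, 8, 10, 12, 15] := by
  decide +kernel

theorem code_pow {c : ℕ} (hc : okPerm 100 7 c = true) : ∀ i : ℕ,
    okPerm 100 7 (Nat.rec (packW 7 (fun x => x) 100) (fun _ a => mulP 100 7 c a) i) = true ∧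
      decodeP 100 7 (Nat.rec (packW 7 (fun x => x) 100) (fun _ a => mulP 100 7 c a) i) =
        decodeP 100 7 c ^ i
  | 0 => ⟨R100.ok_one, R100.val_one⟩
  | i + 1 => by
    rw [pow_succ']
    exact mulP_spec ⟨hc, rfl⟩ (code_pow hc i)

theorem code_injective {a b : ℕ} (ha : okPerm 100 7 a = true) (hb : okPerm 100 7 b = true)
    (h : decodeP 100 7 a = decodeP 100 7 b) (x : Fin 100) : getW 7 a x = getW 7 b x := by
  rw [← decodeP_apply ha, ← decodeP_apply hb, h]

theorem witness_norm : (witnesses.all fun w => (List.range w.1).all fun i =>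
    Nat.beq (i + 1) w.1 || (List.range 100).any fun x => !Nat.beq
      (getW 7 (Nat.rec (packW 7 (fun x => x) 100) (fun _ a => mulP 100 7 w.2 a) (i + 1)) x) x) = true := by
  decide +kernel

theorem exists_order {n : ℕ} (hn : n ∈ [7, 8, 10, 12, 15]) : ∃ g ∈ K100, orderOf g = n := by
  rw [← witness_check.2] at hn
  obtain ⟨⟨n, c⟩, hw, rfl⟩ := List.mem_map.1 hn
  have h := List.all_eq_true.1 witness_check.1 _ hw
  have hnorm := List.all_eq_true.1 witness_norm _ hw
  simp only [Bool.and_eq_true, decide_eq_true_eq, List.all_eq_true, List.mem_range, beq_iff_eq] at h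
  simp only [List.all_eq_true, List.mem_range, Bool.or_eq_true, List.any_eq_true,
    Bool.not_eq_true'] at hnorm
  obtain ⟨⟨hok, hs⟩, hp⟩ := h
  refine ⟨decodeP 100 7 c, grp_sa ▸ R100.mem_grp_of_sift chain_ok.1 hok hs, ?_⟩
  have hn0 : 0 < n := by
    have h1 := List.mem_map_of_mem (f := Prod.fst) hw
    rw [witness_check.2] at h1
    simp at h1
    omega
  refine (orderOf_eq_iff hn0).2 ⟨?_, fun m hm hm0 hpow => ?_⟩
  · obtain ⟨j, rfl⟩ := Nat.exists_eq_add_of_lt hn0
    rw [Nat.zero_add] at hp ⊢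
    have h2 := hp j (by omega)
    rw [Nat.beq_refl] at h2
    rw [← (code_pow hok (j + 1)).2]
    exact (congrArg (decodeP 100 7) (Nat.eq_of_beq_eq_true h2)).trans R100.val_one
  · obtain ⟨j, rfl⟩ := Nat.exists_eq_add_of_lt hm0
    rw [Nat.zero_add] at hm hpow
    obtain ⟨x, hx, hne⟩ := (hnorm j (by omega)).resolve_left
      (fun e => by have := Nat.eq_of_beq_eq_true e; omega)
    refine absurd ?_ (Nat.ne_of_beq_eq_false hne)
    obtain ⟨hok', hval⟩ := code_pow hok (j + 1)
    rw [hpow] at hval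
    rw [← decodeP_apply hok' ⟨x, hx⟩]
    exact congrArg Fin.val (Equiv.ext_iff.1 hval ⟨x, hx⟩)

/-- The element orders of `J₂`. -/
theorem range_orderOf_J2 : Set.range (orderOf : Cfsg.Spor.J2 → ℕ) = {m | m ∈ orders} := by
  obtain ⟨e⟩ := exists_equiv_J2
  haveI := finite_K100
  ext m
  constructor
  · rintro ⟨g, rfl⟩
    rw [← e.orderOf_eq g, ← Subgroup.orderOf_coe]
    exact orders_K100 (e g).2
  · intro hm
    have key : ∀ m ∈ orders, ∃ n ∈ [7, 8, 10, 12, 15], m ∣ n := by decide +kernel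
    obtain ⟨n, hn, hmn⟩ := key m hm
    obtain ⟨g, hg, hgn⟩ := exists_order hn
    have hn0 : 0 < n := by simp at hn; omega
    refine ⟨e.symm (⟨g, hg⟩ ^ (n / m)), ?_⟩
    rw [e.symm.orderOf_eq, orderOf_pow' _ (Nat.div_pos (Nat.le_of_dvd hn0 hmn)
      (Nat.pos_of_dvd_of_pos hmn hn0)).ne', Subgroup.orderOf_mk, hgn,
      Nat.gcd_eq_right (Nat.div_dvd_of_dvd hmn), Nat.div_div_self hmn hn0.ne']

end Cfsg.Agent.Lib.SporJ2
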