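import Cfsg.Agent.Lib.SporJ2.Group
import Cfsg.Agent.Lib.SporJ2.Chain100A
import Cfsg.Agent.Lib.SporJ2.Chain100B
import Cfsg.Agent.Lib.SporJ2.ChainU33
import Cfsg.Agent.Lib.U33.Group

/-!
The point stabiliser of `J₂` on 100 points: suborbits 1, 36, 63 and the isomorphism with `SU₃(3)`.
-/

set_option autoImplicit false
set_option maxRecDepth 8000

namespace Cfsg.Agent.Lib.SporJ2

open Cfsg.Agent.Lib.Computation

/-- The coded representation on 100 points. -/
noncomputable abbrev R100 : Rep (Equiv.Perm (Fin 100)) (Fin 100) := permRep 100 7 (by decide)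

theorem sa_gens_eq : sa_gens = gens100 ∧ sb_gens = gens100 := by decide +kernel

theorem grp_sa : R100.grp sa_chain = K100 := by
  rw [← R100.closure_eq_grp sa_check, K100,
    show Set.range perm100 = decodeP 100 7 '' {s | s ∈ gens100} from range_decode _ gens_eq.2.2.1]
  rw [sa_gens_eq.1]

theorem grp_sb : R100.grp sb_chain = K100 := by
  rw [← R100.closure_eq_grp sb_check, K100,
    show Set.range perm100 = decodeP 100 7 '' {s | s ∈ gens100} from range_decode _ gens_eq.2.2.1]
  rw [sa_gens_eq.2]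

theorem chain_ok : R100.checkChain sa_chain = true ∧ R100.checkChain sb_chain = true :=
  ⟨R100.checkChain_of_checkClosure sa_check, R100.checkChain_of_checkClosure sb_check⟩

theorem chain_shape : (sa_chain.map fun L => (L.base, L.orb.toList.length)) =
      [(0, 100), (5, 36), (1, 42), (2, 4)] ∧
    (sb_chain.map fun L => (L.base, L.orb.toList.length)) = [(0, 100), (1, 63), (2, 24), (3, 4)] := by
  decide +kernel

/-- The stabiliser of the point `0`. -/
noncomputable def H100 : Subgroup (Equiv.Perm (Fin 100)) := R100.grp sa_chain.tail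

/-- A chain below a chain of the whole group is the stabiliser of the base point. -/
theorem mem_tail_iff {c : List (Level R100.C)} (hc : R100.checkChain c = true)
    (hg : R100.grp c = K100) (hb : c.head?.map (fun L => L.base) = some 0) (g : Equiv.Perm (Fin 100)) :
    g ∈ R100.grp c.tail ↔ g ∈ K100 ∧ g 0 = 0 := by
  match c, hb with
  | L :: rest, hb =>
    simp only [List.head?_cons, Option.map_some, Option.some.injEq] at hb
    rw [List.tail_cons, R100.mem_grp_tail_iff hc, hg, hb]
    rfl

theorem head_zero : sa_chain.head?.map (fun L => L.base) = some 0 ∧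
    sb_chain.head?.map (fun L => L.base) = some 0 := by decide +kernel

theorem mem_H100 (g : Equiv.Perm (Fin 100)) : g ∈ H100 ↔ g ∈ K100 ∧ g 0 = 0 :=
  mem_tail_iff chain_ok.1 grp_sa head_zero.1 g

theorem sb_tail_eq : R100.grp sb_chain.tail = H100 :=
  Subgroup.ext fun g => (mem_tail_iff chain_ok.2 grp_sb head_zero.2 g).trans (mem_H100 g).symm

theorem checkChain_tail' {c : List (Level R100.C)} (hc : R100.checkChain c = true) :
    R100.checkChain c.tail = true := by
  match c with
  | [] => exact hc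
  | L :: rest => exact R100.checkChain_tail hc

theorem card_H100 : Nat.card H100 = 6048 := by
  rw [H100, R100.card_grp (checkChain_tail' chain_ok.1)]
  decide +kernel

/-! ### Identification with `SU₃(3)` -/

/-- A class of 63 elements of `SU₃(3)`. -/
abbrev X63 : Type := {g : U33.G // U33.cls g = u63Cls}

theorem u63_ok : ((List.range 63).all fun k => Nat.blt (u63Idx.getD k 0) 6048 &&
      Nat.beq (U33.clsN (u63Idx.getD k 0)) u63Cls) = true ∧ u63Idx.Nodup ∧ u63Idx.length = 63 ∧
    U33.szN u63Cls = 63 ∧ u63_gens.length = 2 ∧ h100_gens.length = 2 ∧ h163_gens.length = 2 := by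
  decide +kernel

theorem u63_idx {k : ℕ} (hk : k < 63) :
    u63Idx.getD k 0 < 6048 ∧ U33.clsN (u63Idx.getD k 0) = u63Cls := by
  have h := List.all_eq_true.1 u63_ok.1 k (List.mem_range.2 hk)
  simp only [Bool.and_eq_true, Nat.blt_eq, Nat.beq_eq] at h
  exact h

/-- The points of `X63`. -/
def toX (k : Fin 63) : X63 :=
  ⟨U33.el (U33.eltN (u63Idx.getD k 0)), by
    obtain ⟨h1, h2⟩ := u63_idx k.2
    rw [U33.cls, U33.idx_el h1, h2]⟩

theorem toX_bijective : Function.Bijective toX := by
  classical
  refine (Nat.bijective_iff_injective_and_card _).2 ⟨fun i j h => ?_, ?_⟩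
  · have h' := congrArg (fun x : X63 => U33.idx x.1) h
    simp only [toX, U33.idx_el (u63_idx i.2).1, U33.idx_el (u63_idx j.2).1] at h'
    rw [List.getD_eq_getElem _ _ (by rw [u63_ok.2.2.1]; exact i.2),
      List.getD_eq_getElem _ _ (by rw [u63_ok.2.2.1]; exact j.2)] at h'
    exact Fin.ext ((List.Nodup.getElem_inj_iff u63_ok.2.1).1 h')
  · rw [Nat.card_fin, Nat.card_eq_fintype_card, Fintype.card_subtype,
      (U33.card_class (by decide : u63Cls < 14)).1, u63_ok.2.2.2.1]

/-- `Fin 63` numbers the class. -/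
noncomputable def eX : Fin 63 ≃ X63 := Equiv.ofBijective toX toX_bijective

/-- Conjugation on the class. -/
noncomputable def conjX (g : U33.G) : Equiv.Perm X63 where
  toFun x := ⟨g * x.1 * g⁻¹, by rw [U33.cls_conj]; exact x.2⟩
  invFun x := ⟨g⁻¹ * x.1 * g, by
    have := U33.cls_conj g⁻¹ x.1
    rw [inv_inv] at this
    rw [this]; exact x.2⟩
  left_inv x := Subtype.ext (by group)
  right_inv x := Subtype.ext (by group)

/-- `SU₃(3)` on 63 points. -/
noncomputable def psi : U33.G →* Equiv.Perm (Fin 63) :=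
  eX.symm.permCongrHom.toMonoidHom.comp
    { toFun := conjX
      map_one' := Equiv.ext fun x => Subtype.ext (by simp [conjX])
      map_mul' := fun a b => Equiv.ext fun x => Subtype.ext (by simp [conjX, mul_assoc]) }

theorem psi_check : ((List.range 2).all fun q => okPerm 63 6 (u63_gens.getD q 0) &&
    (List.range 63).all fun k => Nat.beq (U33.conjP q (u63Idx.getD k 0))
      (u63Idx.getD (getW 6 (u63_gens.getD q 0) k) 0)) = true := by decide +kernel

theorem psi_gen (q : Fin 2) : psi (U33.gen q) = decodeP 63 6 (u63_gens.getD q 0) := by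
  have h := List.all_eq_true.1 psi_check q (List.mem_range.2 q.2)
  simp only [Bool.and_eq_true, List.all_eq_true, List.mem_range] at h
  obtain ⟨ok, h⟩ := h
  refine Equiv.ext fun k => eX.injective (Subtype.ext ?_)
  obtain ⟨-, -, e⟩ := U33.conj_spec q.2 (u63_idx k.2).1
  have hk := Nat.eq_of_beq_eq_true (h k k.2)
  simp only [psi, MonoidHom.comp_apply, MonoidHom.coe_mk, OneHom.coe_mk, MulEquiv.coe_toMonoidHom]
  show ((eX (eX.symm (conjX (U33.gen q) (eX k)))) : X63).1 = _
  rw [Equiv.apply_symm_apply]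
  show U33.gen q * U33.el (U33.eltN (u63Idx.getD k 0)) * (U33.gen q)⁻¹ =
    U33.el (U33.eltN (u63Idx.getD ((decodeP 63 6 (u63_gens.getD q 0) k : Fin 63) : ℕ) 0))
  rw [e, hk, decodeP_apply ok]

theorem range_two {n w : ℕ} (L : List ℕ) (h2 : L.length = 2) :
    Set.range (fun g : Fin 2 => decodeP n w (L.getD g 0)) = decodeP n w '' {s | s ∈ L} := by
  ext σ
  simp only [Set.mem_range, Set.mem_image, Set.mem_setOf_eq]
  constructor
  · rintro ⟨g, rfl⟩
    refine ⟨_, ?_, rfl⟩
    rw [List.getD_eq_getElem _ _ (h2.symm ▸ g.2)]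
    exact List.getElem_mem _
  · rintro ⟨s, hs, rfl⟩
    obtain ⟨i, hi, rfl⟩ := List.getElem_of_mem hs
    exact ⟨⟨i, h2 ▸ hi⟩, by rw [List.getD_eq_getElem _ _ hi]⟩

theorem gens_two : Subgroup.closure (Set.range fun q : Fin 2 => U33.gen q) = ⊤ := by
  rw [eq_top_iff, ← U33.gens_top, Subgroup.closure_le]
  rintro _ ⟨q, rfl⟩
  rcases U33.genN_two (q := q) with h | h
  · exact Subgroup.subset_closure ⟨0, (congrArg U33.el h).symm⟩
  · exact Subgroup.subset_closure ⟨1, (congrArg U33.el h).symm⟩

theorem orders_u33 : (permRep 63 6 (by decide)).order u63_chain = 6048 ∧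
    R100.order h100_chain = 6048 ∧ (permRep 163 8 (by decide)).order h163_chain = 6048 := by
  decide +kernel

/-- The image of `SU₃(3)` on 63 points. -/
noncomputable def U63 : Subgroup (Equiv.Perm (Fin 63)) :=
  Subgroup.closure (Set.range fun q : Fin 2 => decodeP 63 6 (u63_gens.getD q 0))

theorem card_U63 : Nat.card U63 = 6048 := by
  rw [U63, range_two _ u63_ok.2.2.2.2.1]
  exact ((permRep 63 6 (by decide)).card_closure u63_check).trans orders_u33.1

theorem range_psi : psi.range = U63 := by
  rw [MonoidHom.range_eq_map, ← gens_two, MonoidHom.map_closure, ← Set.range_comp]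
  exact congrArg (fun f => Subgroup.closure (Set.range f)) (funext psi_gen)

theorem exists_equiv_U63 : Nonempty (U63 ≃* U33.G) := by
  have hb : Function.Bijective psi.rangeRestrict :=
    (Nat.bijective_iff_surjective_and_card _).2 ⟨psi.rangeRestrict_surjective, by
      rw [range_psi, card_U63, U33.card_G]⟩
  exact ⟨((MulEquiv.ofBijective _ hb).trans (MulEquiv.subgroupCongr range_psi)).symm⟩

/-- Two generators of the point stabiliser. -/
noncomputable def hgen (q : Fin 2) : Equiv.Perm (Fin 100) := decodeP 100 7 (h100_gens.getD q 0)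

theorem h100_mem_check : (h100_gens.all fun c => R100.ok c && R100.sift sa_chain.tail c) = true := by
  decide +kernel

theorem closure_hgen : Subgroup.closure (Set.range hgen) = H100 := by
  have e : Set.range hgen = decodeP 100 7 '' {s | s ∈ h100_gens} := range_two _ u63_ok.2.2.2.2.2.1
  have hc : Nat.card (Subgroup.closure (Set.range hgen)) = 6048 := by
    rw [e]; exact (R100.card_closure h100_check).trans orders_u33.2.1
  haveI : Finite H100 := R100.finite_grp (checkChain_tail' chain_ok.1)
  refine Subgroup.eq_of_le_of_card_ge ?_ (by rw [hc, card_H100])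
  rw [Subgroup.closure_le, e]
  rintro _ ⟨s, hs, rfl⟩
  have h := List.all_eq_true.1 h100_mem_check s hs
  simp only [Bool.and_eq_true] at h
  exact R100.mem_grp_of_sift (checkChain_tail' chain_ok.1) h.1 h.2

/-- Pairs of permutations as permutations of 163 points. -/
noncomputable def pairHom163 : Equiv.Perm (Fin 100) × Equiv.Perm (Fin 63) →* Equiv.Perm (Fin 163) :=
  (finSumFinEquiv (m := 100) (n := 63)).permCongrHom.toMonoidHom.comp
    (Equiv.Perm.sumCongrHom (Fin 100) (Fin 63))

theorem joint163_check : ((List.range 2).all fun g =>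
    okPerm 163 8 (h163_gens.getD g 0) && okPerm 100 7 (h100_gens.getD g 0) &&
      okPerm 63 6 (u63_gens.getD g 0) &&
      ((List.range 100).all fun x =>
        Nat.beq (getW 8 (h163_gens.getD g 0) x) (getW 7 (h100_gens.getD g 0) x)) &&
      ((List.range 63).all fun x =>
        Nat.beq (getW 8 (h163_gens.getD g 0) (100 + x)) (100 + getW 6 (u63_gens.getD g 0) x))) = true := by
  decide +kernel

theorem pairHom163_gen (g : Fin 2) :
    pairHom163 (hgen g, decodeP 63 6 (u63_gens.getD g 0)) = decodeP 163 8 (h163_gens.getD g 0) := by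
  have h := List.all_eq_true.1 joint163_check g (List.mem_range.2 g.2)
  simp only [Bool.and_eq_true, List.all_eq_true, List.mem_range] at h
  obtain ⟨⟨⟨⟨ok, ok1⟩, ok2⟩, h1⟩, h2⟩ := h
  refine Equiv.ext fun i => ?_
  obtain ⟨s, rfl⟩ := (finSumFinEquiv (m := 100) (n := 63)).surjective i
  refine Fin.ext ?_
  rw [decodeP_apply ok]
  rcases s with x | x
  · simp [-List.getD_eq_getElem?_getD, pairHom163, hgen]
    show ((decodeP 100 7 (h100_gens.getD g 0) x : Fin 100) : ℕ) = getW 8 (h163_gens.getD g 0) x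
    rw [decodeP_apply ok1, Nat.eq_of_beq_eq_true (h1 x x.2)]
  · simp [-List.getD_eq_getElem?_getD, pairHom163]
    show 100 + ((decodeP 63 6 (u63_gens.getD g 0) x : Fin 63) : ℕ) =
      getW 8 (h163_gens.getD g 0) (100 + x)
    rw [decodeP_apply ok2, Nat.eq_of_beq_eq_true (h2 x x.2)]

/-- The joint group. -/
noncomputable def Hpair : Subgroup (Equiv.Perm (Fin 100) × Equiv.Perm (Fin 63)) :=
  Subgroup.closure (Set.range fun g => (hgen g, decodeP 63 6 (u63_gens.getD g 0)))

theorem card_Hpair : Nat.card Hpair = 6048 := by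
  have hi : Function.Injective pairHom163 :=
    ((finSumFinEquiv (m := 100) (n := 63)).permCongrHom.injective).comp
      Equiv.Perm.sumCongrHom_injective
  rw [Nat.card_congr (Hpair.equivMapOfInjective pairHom163 hi).toEquiv, Hpair,
    MonoidHom.map_closure, ← Set.range_comp,
    show (pairHom163 ∘ fun g => (hgen g, decodeP 63 6 (u63_gens.getD g 0))) =
      fun g : Fin 2 => decodeP 163 8 (h163_gens.getD g 0) from funext pairHom163_gen,
    range_two _ u63_ok.2.2.2.2.2.2]
  exact ((permRep 163 8 (by decide)).card_closure h163_check).trans orders_u33.2.2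

theorem exists_equiv_H100 : Nonempty (H100 ≃* U33.G) := by
  have m1 : Hpair.map (MonoidHom.fst _ _) = H100 := by
    rw [Hpair, MonoidHom.map_closure, ← Set.range_comp, ← closure_hgen]; rfl
  have m2 : Hpair.map (MonoidHom.snd _ _) = U63 := by
    rw [Hpair, MonoidHom.map_closure, ← Set.range_comp]; rfl
  obtain ⟨e1⟩ := nonempty_equiv_map (MonoidHom.fst _ _) Hpair (by rw [m1, card_Hpair, card_H100])
  obtain ⟨e2⟩ := nonempty_equiv_map (MonoidHom.snd _ _) Hpair (by rw [m2, card_Hpair, card_U63])
  obtain ⟨e3⟩ := exists_equiv_U63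
  exact ⟨((MulEquiv.subgroupCongr m1).symm.trans e1.symm).trans
    ((e2.trans (MulEquiv.subgroupCongr m2)).trans e3)⟩

/-! ### Suborbits -/

/-- The suborbit of size 36. -/
def orbA : List ℕ := (sa_chain.getD 1 ⟨0, [], .leaf⟩).orb.toList.map fun e => e.point
/-- The suborbit of size 63. -/
def orbB : List ℕ := (sb_chain.getD 1 ⟨0, [], .leaf⟩).orb.toList.map fun e => e.point

theorem orb_check : orbA.Nodup ∧ orbB.Nodup ∧ orbA.length = 36 ∧ orbB.length = 63 ∧
    ((List.range 100).all fun x => decide ((x = 0 ∨ x ∈ orbA ∨ x ∈ orbB) ∧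
      ¬(x = 0 ∧ x ∈ orbA) ∧ ¬(x = 0 ∧ x ∈ orbB) ∧ ¬(x ∈ orbA ∧ x ∈ orbB))) = true := by
  decide +kernel

/-- In a chain of the whole group, the second orbit is an orbit of the point stabiliser. -/
theorem second_orbit {c : List (Level R100.C)} (hc : R100.checkChain c = true)
    (hH : R100.grp c.tail = H100) {b : ℕ} (hb : (c.getD 1 ⟨0, [], .leaf⟩).base = b)
    (hl : 2 ≤ c.length) (y : Fin 100) :
    (∃ h ∈ H100, h (Fin.ofNat 100 b) = y) ↔
      (y : ℕ) ∈ (c.getD 1 ⟨0, [], .leaf⟩).orb.toList.map fun e => e.point := by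
  match c, hl with
  | L0 :: L :: rest, _ =>
    simp only [List.getD_cons_succ, List.getD_cons_zero] at hb ⊢
    have hc' := R100.checkChain_tail hc
    rw [List.tail_cons] at hH
    constructor
    · rintro ⟨h, hh, rfl⟩
      rw [← hH] at hh
      obtain ⟨e, he, hval⟩ := R100.smul_base_mem hc' hh
      rw [hb] at hval
      refine List.mem_map.2 ⟨e, he, ?_⟩
      have hv : h (Fin.ofNat 100 b) = Fin.ofNat 100 e.point := hval
      rw [hv]
      have := (R100.levelFacts hc').ptOk_point e he
      simp only [permRep, Nat.blt, Nat.ble_eq] at this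
      exact (Nat.mod_eq_of_lt this).symm
    · intro hy
      obtain ⟨e, he, hey⟩ := List.mem_map.1 hy
      refine ⟨R100.val e.fwd, hH ▸ R100.fwd_mem_grp hc' he, ?_⟩
      have h := R100.fwd_smul_base hc' he
      rw [hb] at h
      refine (show R100.val e.fwd (Fin.ofNat 100 b) = Fin.ofNat 100 e.point from h).trans (Fin.ext ?_)
      simp [hey, Nat.mod_eq_of_lt y.2]

theorem orbit_A (y : Fin 100) : (∃ h ∈ H100, h 5 = y) ↔ (y : ℕ) ∈ orbA :=
  second_orbit chain_ok.1 rfl (by decide +kernel) (by decide +kernel) y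

theorem orbit_B (y : Fin 100) : (∃ h ∈ H100, h 1 = y) ↔ (y : ℕ) ∈ orbB :=
  second_orbit chain_ok.2 sb_tail_eq (by decide +kernel) (by decide +kernel) y

theorem ncard_orbit {b : Fin 100} {L : List ℕ} (hn : L.Nodup) (hlt : ∀ x ∈ L, x < 100)
    (h : ∀ y : Fin 100, (∃ g ∈ H100, g b = y) ↔ (y : ℕ) ∈ L) :
    {y : Fin 100 | ∃ g ∈ H100, g b = y}.ncard = L.length := by
  have e : {y : Fin 100 | ∃ g ∈ H100, g b = y} = (L.pmap (fun x hx => (⟨x, hx⟩ : Fin 100)) hlt).toFinset := by
    ext y
    simp only [Set.mem_setOf_eq, h, List.coe_toFinset, List.mem_pmap]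
    constructor
    · intro hy; exact ⟨y, hy, rfl⟩
    · rintro ⟨x, hx, rfl⟩; exact hx
  rw [e, Set.ncard_coe_finset, List.toFinset_card_of_nodup, List.length_pmap]
  exact hn.pmap fun a _ b _ hab => congrArg Fin.val hab

theorem orb_lt : (∀ x ∈ orbA, x < 100) ∧ ∀ x ∈ orbB, x < 100 := by decide +kernel

theorem cover (x : Fin 100) : x = 0 ∨ (∃ h ∈ H100, h 5 = x) ∨ ∃ h ∈ H100, h 1 = x := by
  have h := List.all_eq_true.1 orb_check.2.2.2.2 x (List.mem_range.2 x.2)
  simp only [decide_eq_true_eq] at h
  rcases h.1 with h | h | h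
  · exact Or.inl (Fin.ext h)
  · exact Or.inr (Or.inl ((orbit_A x).2 h))
  · exact Or.inr (Or.inr ((orbit_B x).2 h))

end Cfsg.Agent.Lib.SporJ2
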